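import Cfsg.Agent.S0022
import Cfsg.Agent.S0033

/-!
# S1545, Part II: reduction of the Frobenius fixed point formula to the module case
-/

set_option autoImplicit false

namespace Cfsg.Agent.Lib.Helper73.FrobRed

open Subgroup

universe u

section action

variable {X : Type u} [Group X] (A H : Subgroup X)
  (hHn : ∀ x ∈ A, ∀ h ∈ H, x * h * x⁻¹ ∈ H)

/-- conjugation of `A` on `H` -/
def conjEnd (g : ↥A) : ↥H →* ↥H where
  toFun := fun h => ⟨g * h * g⁻¹, hHn g g.2 h h.2⟩
  map_one' := by ext; simp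
  map_mul' := by intro a b; ext; simp

theorem conjEnd_apply (g : ↥A) (h : ↥H) : ((conjEnd A H hHn g h : ↥H) : X) = g * h * g⁻¹ := rfl

theorem conjEnd_one : conjEnd A H hHn 1 = MonoidHom.id ↥H := by
  ext h; simp [conjEnd_apply]

theorem conjEnd_mul (a b : ↥A) :
    conjEnd A H hHn (a * b) = (conjEnd A H hHn a).comp (conjEnd A H hHn b) := by
  ext h; simp [conjEnd_apply, mul_assoc]

/-- the action of `A` on the abelianization of `H`, written additively -/
abbrev abAction : DistribMulAction ↥A (Additive (Abelianization ↥H)) where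
  smul g v := Additive.ofMul (Abelianization.map (conjEnd A H hHn g) v.toMul)
  one_smul v := by
    change Additive.ofMul (Abelianization.map (conjEnd A H hHn 1) v.toMul) = v
    rw [conjEnd_one, Abelianization.map_id]; rfl
  mul_smul a b v := by
    change Additive.ofMul (Abelianization.map (conjEnd A H hHn (a * b)) v.toMul) =
      Additive.ofMul (Abelianization.map (conjEnd A H hHn a)
        (Abelianization.map (conjEnd A H hHn b) v.toMul))
    rw [conjEnd_mul, Abelianization.map_map_apply]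
  smul_zero g := by
    change Additive.ofMul (Abelianization.map (conjEnd A H hHn g) 1) = 0
    rw [map_one]; rfl
  smul_add g v w := by
    change Additive.ofMul (Abelianization.map (conjEnd A H hHn g) (v.toMul * w.toMul)) = _
    rw [map_mul]; rfl

theorem comm_le : ⁅H, H⁆ ≤ H := by
  rw [Subgroup.commutator_le]
  intro a ha b hb
  rw [commutatorElement_def]
  exact H.mul_mem (H.mul_mem (H.mul_mem ha hb) (inv_mem ha)) (inv_mem hb)

theorem map_commutator_subtype : (commutator ↥H).map H.subtype = ⁅H, H⁆ := by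
  rw [_root_.commutator_def, Subgroup.map_commutator, ← MonoidHom.range_eq_map, Subgroup.range_subtype]

theorem mem_commutator_iff (h : ↥H) : h ∈ commutator ↥H ↔ (h : X) ∈ ⁅H, H⁆ := by
  rw [← map_commutator_subtype, ← Subgroup.mem_map_iff_mem H.subtype_injective]; rfl

theorem of_eq_one_iff (h : ↥H) : Abelianization.of h = 1 ↔ (h : X) ∈ ⁅H, H⁆ := by
  rw [← mem_commutator_iff, ← Abelianization.ker_of, MonoidHom.mem_ker]

theorem commutator_conj_mem {x : X} (hx : ∀ h ∈ H, x * h * x⁻¹ ∈ H) :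
    ∀ h ∈ ⁅H, H⁆, x * h * x⁻¹ ∈ ⁅H, H⁆ := by
  intro h hh
  have h1 : (⁅H, H⁆).map (MulAut.conj x).toMonoidHom ≤ ⁅H, H⁆ := by
    rw [Subgroup.map_commutator]
    have h2 : H.map (MulAut.conj x).toMonoidHom ≤ H := by
      rintro _ ⟨y, hy, rfl⟩
      exact hx y hy
    exact Subgroup.commutator_mono h2 h2
  exact h1 ⟨h, hh, rfl⟩

end action

section main

variable {X : Type u} [Group X] [Finite X] (A H : Subgroup X)
  (hHn : ∀ x ∈ A, ∀ h ∈ H, x * h * x⁻¹ ∈ H)

omit [Finite X] in
theorem card_eq_mul : Nat.card H = Nat.card ↥(⁅H, H⁆) * Nat.card (Additive (Abelianization ↥H)) := by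
  have h1 := Subgroup.card_eq_card_quotient_mul_card_subgroup (commutator ↥H)
  have h2 : Nat.card ↥(⁅H, H⁆) = Nat.card (commutator ↥H) := by
    rw [← map_commutator_subtype, Subgroup.card_map_of_injective H.subtype_injective]
  rw [h1, h2, mul_comm]
  rfl

theorem card_inf_centralizer (hsolv : Group.IsSolvable H)
    (hcop : Nat.Coprime (Nat.card H) (Nat.card A)) (B' : Subgroup ↥A) :
    letI := abAction A H hHn
    Nat.card ↥(H ⊓ centralizer ((B'.map A.subtype : Subgroup X) : Set X)) =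
      Nat.card ↥(⁅H, H⁆ ⊓ centralizer ((B'.map A.subtype : Subgroup X) : Set X)) *
        Nat.card {v : Additive (Abelianization ↥H) // ∀ g ∈ B', g • v = v} := by
  let _ := abAction A H hHn
  set B : Subgroup X := B'.map A.subtype with hB
  set C : Subgroup X := H ⊓ centralizer (B : Set X) with hC
  have hBA : B ≤ A := by
    rintro _ ⟨y, -, rfl⟩; exact y.2
  let f : ↥C →* Abelianization ↥H := Abelianization.of.comp (Subgroup.inclusion inf_le_left)
  have hf : ∀ c : ↥C, f c = Abelianization.of ⟨c, c.2.1⟩ := fun c => rfl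
  have h1 : Nat.card ↥C = Nat.card f.ker * Nat.card f.range := by
    rw [← Subgroup.index_ker, Subgroup.card_mul_index]
  have h2 : Nat.card f.ker = Nat.card ↥(⁅H, H⁆ ⊓ centralizer (B : Set X)) := by
    rw [← Subgroup.card_map_of_injective C.subtype_injective]
    congr 2
    ext x
    constructor
    · rintro ⟨c, hc, rfl⟩
      have h3 : f c = 1 := hc
      rw [hf, of_eq_one_iff] at h3
      exact ⟨h3, c.2.2⟩
    · rintro ⟨hx1, hx2⟩
      have hxH : x ∈ H := comm_le H hx1
      refine ⟨⟨x, hxH, hx2⟩, ?_, rfl⟩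
      change f _ = 1
      rw [hf, of_eq_one_iff]
      exact hx1
  have h3 : Nat.card f.range =
      Nat.card {v : Additive (Abelianization ↥H) // ∀ g ∈ B', g • v = v} := by
    apply Nat.card_congr
    refine Equiv.subtypeEquiv Additive.ofMul (fun a => ?_)
    constructor
    · rintro ⟨c, rfl⟩ g hg
      change Additive.ofMul (Abelianization.map (conjEnd A H hHn g) (f c)) = Additive.ofMul (f c)
      rw [hf, Abelianization.map_of]
      congr 2
      apply Subtype.ext
      rw [conjEnd_apply]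
      have hgB : (g : X) ∈ B := ⟨g, hg, rfl⟩
      have := Subgroup.mem_centralizer_iff.1 c.2.2 g hgB
      change (g : X) * (c : X) * (g : X)⁻¹ = c
      rw [this]; group
    · intro hfix
      obtain ⟨h, rfl⟩ : ∃ h : ↥H, Abelianization.of h = a := QuotientGroup.mk_surjective a
      have hfix' : ∀ b ∈ B, b * h * b⁻¹ * (h : X)⁻¹ ∈ ⁅H, H⁆ := by
        rintro _ ⟨g, hg, rfl⟩
        have h4 := hfix g hg
        change Additive.ofMul (Abelianization.map (conjEnd A H hHn g) (Abelianization.of h)) =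
          Additive.ofMul (Abelianization.of h) at h4
        rw [Abelianization.map_of] at h4
        have h5 : Abelianization.of (conjEnd A H hHn g h) = Abelianization.of h :=
          Additive.ofMul.injective h4
        have h6 : Abelianization.of (conjEnd A H hHn g h * h⁻¹) = 1 := by
          rw [map_mul, h5, map_inv, mul_inv_cancel]
        rw [of_eq_one_iff] at h6
        exact h6
      have hnorm : ∀ K : Subgroup X, (∀ x ∈ A, ∀ h ∈ K, x * h * x⁻¹ ∈ K) →
          B ≤ normalizer (K : Set X) := by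
        intro K hK b hb
        rw [Subgroup.mem_normalizer_iff]
        intro y
        constructor
        · exact hK b (hBA hb) y
        · intro hy
          have := hK b⁻¹ (inv_mem (hBA hb)) _ hy
          simpa [mul_assoc] using this
      obtain ⟨c, hc, hcN⟩ := Cfsg.Agent.S0022.result B H (hnorm H hHn)
        ((Nat.Coprime.coprime_dvd_left (Subgroup.card_dvd_of_le hBA) hcop.symm))
        (Or.inr hsolv) ⁅H, H⁆ (comm_le H)
        (by
          intro y hy
          rw [Subgroup.mem_normalizer_iff]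
          intro z
          have key : ∀ w ∈ H, ∀ z ∈ ⁅H, H⁆, w * z * w⁻¹ ∈ ⁅H, H⁆ := fun w hw =>
            commutator_conj_mem H (fun h hh => mul_mem (mul_mem hw hh) (inv_mem hw))
          constructor
          · exact key y hy z
          · intro hz
            have := key y⁻¹ (inv_mem hy) _ hz
            simpa [mul_assoc] using this)
        (hnorm ⁅H, H⁆ (fun x hx => commutator_conj_mem H (hHn x hx)))
        h h.2 hfix'
      refine ⟨⟨c, hc⟩, ?_⟩
      rw [hf]
      have h7 : Abelianization.of (h⁻¹ * ⟨c, hc.1⟩ : ↥H) = 1 := by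
        rw [of_eq_one_iff]; exact hcN
      rw [map_mul, map_inv, inv_mul_eq_one] at h7
      exact h7.symm
  rw [h1, h2, h3]

end main

theorem arith (n a1 a2 a3 a4 b1 b2 b3 b4 : ℕ) (h1 : a1 ^ n * a4 = a2 ^ n * a3)
    (h2 : b1 ^ n * b4 = b2 ^ n * b3) :
    (a1 * b1) ^ n * (a4 * b4) = (a2 * b2) ^ n * (a3 * b3) := by
  calc (a1 * b1) ^ n * (a4 * b4) = (a1 ^ n * a4) * (b1 ^ n * b4) := by ring
    _ = (a2 ^ n * a3) * (b2 ^ n * b3) := by rw [h1, h2]
    _ = _ := by ring

/-- the module formula (Part I), as a hypothesis -/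
def ModuleFormula : Prop :=
  ∀ (G V : Type u) [Group G] [Finite G] [AddCommGroup V] [Finite V] [DistribMulAction G V]
    (K R : Subgroup G), (∀ r ∈ R, ∀ k ∈ K, r * k * r⁻¹ ∈ K) →
    (∀ r ∈ R, r ≠ 1 → ∀ k ∈ K, r * k = k * r → k = 1) → Group.IsSolvable K →
    (Nat.card K * Nat.card R).Coprime (Nat.card V) →
    Nat.card {v : V // ∀ g ∈ K ⊔ R, g • v = v} ^ Nat.card R * Nat.card V =
      Nat.card {v : V // ∀ g ∈ R, g • v = v} ^ Nat.card R *
        Nat.card {v : V // ∀ g ∈ K, g • v = v}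

/-- the kernel of the Frobenius group `U ⊔ E` is solvable (Thompson) -/
theorem kernel_solvable {X : Type u} [Group X] [Finite X] (U E : Subgroup X) (hU1 : U ≠ ⊥)
    (hE1 : E ≠ ⊥) (hUn : ∀ e ∈ E, ∀ u ∈ U, e * u * e⁻¹ ∈ U)
    (hfpf : ∀ e ∈ E, e ≠ 1 → ∀ u ∈ U, e * u = u * e → u = 1) :
    Group.IsSolvable ↥(U.subgroupOf (U ⊔ E)) := by
  have hN : (U.subgroupOf (U ⊔ E)).Normal := by
    rw [Subgroup.normal_subgroupOf_iff_le_normalizer le_sup_left, sup_le_iff]
    refine ⟨Subgroup.le_normalizer, ?_⟩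
    intro e he
    rw [Subgroup.mem_normalizer_iff]
    intro y
    constructor
    · exact hUn e he y
    · intro hy
      have := hUn e⁻¹ (inv_mem he) _ hy
      simpa [mul_assoc] using this
  have hEnt : Nontrivial ↥E := (Subgroup.nontrivial_iff_ne_bot E).2 hE1
  have hcE : Nat.card ↥E ≠ 1 := by
    have := Finite.one_lt_card (α := ↥E)
    omega
  obtain ⟨p, hp, hpd⟩ := Nat.exists_prime_and_dvd hcE
  have : Fact p.Prime := ⟨hp⟩
  obtain ⟨e, he⟩ := exists_prime_orderOf_dvd_card' p hpd
  have he1 : (e : X) ≠ 1 := by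
    intro h
    have : e = 1 := Subtype.ext h
    rw [this, orderOf_one] at he
    exact hp.one_lt.ne he
  let e' : ↥(U ⊔ E) := ⟨e, (le_sup_right : E ≤ U ⊔ E) e.2⟩
  let φ : MulAut ↥(U.subgroupOf (U ⊔ E)) := MulAut.conjNormal e'
  have hφ : ∀ k : ↥(U.subgroupOf (U ⊔ E)), (((φ k : ↥(U.subgroupOf (U ⊔ E))) : ↥(U ⊔ E)) : X) =
      e * ((k : ↥(U ⊔ E)) : X) * (e : X)⁻¹ := fun k => rfl
  have hfix : ∀ k : ↥(U.subgroupOf (U ⊔ E)), φ k = k → k = 1 := by
    intro k hk
    have h1 := hφ k
    rw [hk] at h1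
    have h2 : (e : X) * ((k : ↥(U ⊔ E)) : X) = ((k : ↥(U ⊔ E)) : X) * e := by
      nth_rewrite 2 [h1]; group
    have h3 := hfpf e e.2 he1 _ (Subgroup.mem_subgroupOf.1 k.2) h2
    exact Subtype.ext (Subtype.ext h3)
  have hpow : φ ^ p = 1 := by
    have h1 : e' ^ p = 1 := by
      apply Subtype.ext
      have h2 : e ^ p = 1 := by rw [← he]; exact pow_orderOf_eq_one e
      have h3 := congrArg Subtype.val h2
      simpa [e'] using h3
    change (MulAut.conjNormal e') ^ p = 1
    rw [← map_pow, h1, map_one]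
  have hne : φ ≠ 1 := by
    intro h
    obtain ⟨u, hu, hu1⟩ := (Subgroup.ne_bot_iff_exists_ne_one).1 hU1 |> fun ⟨u, hu1⟩ =>
      (⟨(u : X), u.2, fun h => hu1 (Subtype.ext h)⟩ : ∃ u : X, u ∈ U ∧ u ≠ 1)
    let k : ↥(U.subgroupOf (U ⊔ E)) := ⟨⟨u, (le_sup_left : U ≤ U ⊔ E) hu⟩, hu⟩
    have h1 : φ k = k := by rw [h]; rfl
    have h2 := hfix k h1
    apply hu1
    exact congrArg (fun z : ↥(U.subgroupOf (U ⊔ E)) => ((z : ↥(U ⊔ E)) : X)) h2
  have hord : orderOf φ = p := orderOf_eq_prime hpow hne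
  have hnil : Group.IsNilpotent ↥(U.subgroupOf (U ⊔ E)) :=
    Cfsg.Agent.S0033.result φ hfix p hp hord
  infer_instance

theorem frob_red (hMF : ModuleFormula.{u}) {X : Type u} [Group X] [Finite X] (U E H : Subgroup X)
    (hU1 : U ≠ ⊥) (hE1 : E ≠ ⊥) (hUn : ∀ e ∈ E, ∀ u ∈ U, e * u * e⁻¹ ∈ U)
    (hfpf : ∀ e ∈ E, e ≠ 1 → ∀ u ∈ U, e * u = u * e → u = 1)
    (hHn : ∀ x ∈ U ⊔ E, ∀ h ∈ H, x * h * x⁻¹ ∈ H)
    (hsolv : Group.IsSolvable H) (hcop : Nat.Coprime (Nat.card H) (Nat.card ↥(U ⊔ E))) :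
    Nat.card ↥(H ⊓ Subgroup.centralizer ((U ⊔ E : Subgroup X) : Set X)) ^ Nat.card E * Nat.card H =
      Nat.card ↥(H ⊓ Subgroup.centralizer (E : Set X)) ^ Nat.card E *
        Nat.card ↥(H ⊓ Subgroup.centralizer (U : Set X)) := by
  have hKs := kernel_solvable U E hU1 hE1 hUn hfpf
  induction hn : Nat.card H using Nat.strong_induction_on generalizing H with
  | _ n ih =>
  subst hn
  by_cases hH : H = ⊥
  · subst hH
    simp
  have hHnt : Nontrivial ↥H := (Subgroup.nontrivial_iff_ne_bot H).2 hH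
  have hlt : Nat.card ↥(⁅H, H⁆) < Nat.card H := by
    by_contra hge
    push Not at hge
    have h1 : ⁅H, H⁆ = H := Subgroup.eq_of_le_of_card_ge (comm_le H) hge
    have h2 : commutator ↥H = ⊤ := by
      rw [eq_top_iff]
      intro h _
      rw [mem_commutator_iff, h1]
      exact h.2
    exact (Group.IsSolvable.commutator_lt_top_of_nontrivial ↥H).ne h2
  have hsolv' : Group.IsSolvable ↥(⁅H, H⁆) :=
    Group.isSolvable_of_isSolvable_injective (Subgroup.inclusion_injective (comm_le H))
  have hIH := ih _ hlt ⁅H, H⁆ (fun x hx => commutator_conj_mem H (hHn x hx)) hsolv'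
    (Nat.Coprime.coprime_dvd_left (Subgroup.card_dvd_of_le (comm_le H)) hcop) rfl
  set A : Subgroup X := U ⊔ E with hA
  let K : Subgroup ↥A := U.subgroupOf A
  let R : Subgroup ↥A := E.subgroupOf A
  have hKm : K.map A.subtype = U := Subgroup.map_subgroupOf_eq_of_le le_sup_left
  have hRm : R.map A.subtype = E := Subgroup.map_subgroupOf_eq_of_le le_sup_right
  have hKRm : (K ⊔ R).map A.subtype = A := by rw [Subgroup.map_sup, hKm, hRm]
  have hcR : Nat.card R = Nat.card E :=
    Nat.card_congr (Subgroup.subgroupOfEquivOfLe (le_sup_right : E ≤ A)).toEquiv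
  have hcK : Nat.card K = Nat.card U :=
    Nat.card_congr (Subgroup.subgroupOfEquivOfLe (le_sup_left : U ≤ A)).toEquiv
  have e1 := card_inf_centralizer A H hHn hsolv hcop (K ⊔ R)
  have e2 := card_inf_centralizer A H hHn hsolv hcop R
  have e3 := card_inf_centralizer A H hHn hsolv hcop K
  rw [hKRm] at e1
  rw [hRm] at e2
  rw [hKm] at e3
  have e4 := card_eq_mul H
  have hVd : Nat.card (Additive (Abelianization ↥H)) ∣ Nat.card H := ⟨_, by rw [e4, mul_comm]⟩
  have hfin : Finite (Additive (Abelianization ↥H)) :=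
    inferInstanceAs (Finite (↥H ⧸ commutator ↥H))
  have hmf := @hMF ↥A (Additive (Abelianization ↥H)) _ _ _ hfin (abAction A H hHn) K R
    (by
      intro r hr k hk
      exact Subgroup.mem_subgroupOf.2 (hUn r (Subgroup.mem_subgroupOf.1 hr) k
        (Subgroup.mem_subgroupOf.1 hk)))
    (by
      intro r hr hr1 k hk hc
      have h1 := hfpf r (Subgroup.mem_subgroupOf.1 hr) (fun h => hr1 (Subtype.ext h)) k
        (Subgroup.mem_subgroupOf.1 hk) (congrArg Subtype.val hc)
      exact Subtype.ext h1)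
    hKs
    (by
      rw [hcK, hcR]
      have h1 : (Nat.card U).Coprime (Nat.card H) :=
        Nat.Coprime.coprime_dvd_left (Subgroup.card_dvd_of_le le_sup_left) hcop.symm
      have h2 : (Nat.card E).Coprime (Nat.card H) :=
        Nat.Coprime.coprime_dvd_left (Subgroup.card_dvd_of_le le_sup_right) hcop.symm
      exact Nat.Coprime.coprime_dvd_right hVd (Nat.Coprime.mul_left h1 h2))
  rw [hcR] at hmf
  rw [e1, e2, e3, e4]
  exact arith _ _ _ _ _ _ _ _ _ hIH hmf

end Cfsg.Agent.Lib.Helper73.FrobRed
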