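import Cfsg.Agent.Lib.Helper73.Taussky

set_option autoImplicit false

/-! 2-groups of maximal class: commutator quotient of order 4, centre of order 2, class. -/

namespace Cfsg.Agent.Lib.Helper73

universe u

open scoped commutatorElement

theorem comm_of_commutator_eq_bot {G : Type*} [Group G] (h : commutator G = ⊥) (a b : G) :
    a * b = b * a := by
  have h1 : ⁅a, b⁆ ∈ commutator G := by
    rw [commutator_def]
    exact Subgroup.commutator_mem_commutator (Subgroup.mem_top a) (Subgroup.mem_top b)
  rw [h, Subgroup.mem_bot] at h1
  exact commutatorElement_eq_one_iff_mul_comm.mp h1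

theorem center_eq_top_of_comm {G : Type*} [Group G] (h : ∀ a b : G, a * b = b * a) :
    Subgroup.center G = ⊤ := by
  rw [eq_top_iff]; intro x _
  rw [Subgroup.mem_center_iff]; intro g; exact h g x

theorem commutator_quotient_eq_map {G : Type*} [Group G] (N : Subgroup G) [N.Normal] :
    commutator (G ⧸ N) = (commutator G).map (QuotientGroup.mk' N) := by
  rw [commutator_def, commutator_def, Subgroup.map_commutator,
    Subgroup.map_top_of_surjective _ (QuotientGroup.mk'_surjective N)]

/-- A finite `p`-group with cyclic commutator quotient is commutative. -/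
theorem comm_of_isCyclic_quotient_commutator {p : ℕ} [hp : Fact p.Prime] :
    ∀ (n : ℕ) (G : Type u) [Group G] [Finite G], Nat.card G = n → IsPGroup p G →
      IsCyclic (G ⧸ commutator G) → ∀ a b : G, a * b = b * a := by
  intro n
  induction n using Nat.strong_induction_on with
  | _ n ih =>
  intro G _ _ hcard hG hcyc
  rcases subsingleton_or_nontrivial G with hs | hnt
  · intro a b; exact Subsingleton.elim _ _
  have hZnt : Nontrivial (Subgroup.center G) := hG.center_nontrivial
  have hlt : Nat.card (G ⧸ Subgroup.center G) < n := by
    have hmul := Subgroup.card_eq_card_quotient_mul_card_subgroup (Subgroup.center G)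
    have h1 : 1 < Nat.card (Subgroup.center G) := Finite.one_lt_card_iff_nontrivial.mpr hZnt
    have h2 : 0 < Nat.card (G ⧸ Subgroup.center G) := Nat.card_pos
    rw [hcard] at hmul
    nlinarith
  -- the quotient by the centre has cyclic commutator quotient
  have hcyc' : IsCyclic ((G ⧸ Subgroup.center G) ⧸ commutator (G ⧸ Subgroup.center G)) := by
    let f : G ⧸ commutator G →* (G ⧸ Subgroup.center G) ⧸ commutator (G ⧸ Subgroup.center G) :=
      QuotientGroup.map _ _ (QuotientGroup.mk' (Subgroup.center G)) (by
        rw [commutator_quotient_eq_map]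
        exact Subgroup.le_comap_map _ _)
    have hf : Function.Surjective f := by
      intro y
      obtain ⟨y1, rfl⟩ := QuotientGroup.mk'_surjective _ y
      obtain ⟨y2, rfl⟩ := QuotientGroup.mk'_surjective _ y1
      exact ⟨QuotientGroup.mk' _ y2, rfl⟩
    exact isCyclic_of_surjective f hf
  have hqc := ih _ hlt (G ⧸ Subgroup.center G) rfl (hG.to_quotient _) hcyc'
  -- so the commutator subgroup is central
  have hle : commutator G ≤ Subgroup.center G := by
    have h1 : commutator (G ⧸ Subgroup.center G) = ⊥ := commutator_eq_bot_of_comm hqc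
    rw [commutator_quotient_eq_map, Subgroup.map_eq_bot_iff, QuotientGroup.ker_mk'] at h1
    exact h1
  have hcyc2 : IsCyclic (G ⧸ Subgroup.center G) := by
    let f : G ⧸ commutator G →* G ⧸ Subgroup.center G :=
      QuotientGroup.map _ _ (MonoidHom.id G) (by simpa using hle)
    have hf : Function.Surjective f := by
      intro y
      obtain ⟨y1, rfl⟩ := QuotientGroup.mk'_surjective _ y
      exact ⟨QuotientGroup.mk' _ y1, rfl⟩
    exact isCyclic_of_surjective f hf
  exact (MonoidHom.isMulCommutative_of_isCyclic_of_ker_le_center
    (QuotientGroup.mk' (Subgroup.center G)) (by rw [QuotientGroup.ker_mk'])).is_comm.comm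

/-- A 2-group of order at least 8 whose commutator subgroup has index 4 has centre of order 2. -/
theorem card_center_eq_two {S : Type u} [Group S] [Finite S] (hS : IsPGroup 2 S)
    (hidx : (commutator S).index = 4) (hcard : Nat.card S ≠ 4) :
    Nat.card (Subgroup.center S) = 2 := by
  have : Fact (Nat.Prime 2) := ⟨Nat.prime_two⟩
  obtain ⟨a, ha⟩ := exists_cyclic_index_two _ S rfl hS hidx
  have hna : ¬ ∀ x y : S, x * y = y * x := by
    intro h
    rw [commutator_eq_bot_of_comm h, Subgroup.index_bot] at hidx
    exact hcard hidx
  obtain ⟨b, hb⟩ : ∃ b : S, b ∉ Subgroup.zpowers a := by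
    by_contra hcon
    push Not at hcon
    have : Subgroup.zpowers a = ⊤ := eq_top_iff.mpr fun x _ => hcon x
    rw [this, Subgroup.index_top] at ha
    omega
  have hZle : Subgroup.center S ≤ Subgroup.zpowers a := by
    intro z hz
    by_contra hza
    exact hna (comm_of_index_two a z ha hza ((Subgroup.mem_center_iff.mp hz a).symm))
  have h1 := card_commutator_mul_le (Subgroup.zpowers a) ha
    (fun p hp q hq => by
      obtain ⟨i, rfl⟩ := Subgroup.mem_zpowers_iff.mp hp
      obtain ⟨j, rfl⟩ := Subgroup.mem_zpowers_iff.mp hq
      rw [← zpow_add, ← zpow_add, add_comm]) b hb (Subgroup.center S) hZle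
    (fun x hx => (Subgroup.mem_center_iff.mp hx b).symm)
  have h2 := (commutator S).card_mul_index
  have h3 := (Subgroup.zpowers a).card_mul_index
  rw [hidx] at h2
  rw [ha] at h3
  have hnt : Nontrivial S := by
    by_contra hc
    rw [not_nontrivial_iff_subsingleton] at hc
    exact hna fun x y => Subsingleton.elim _ _
  have hZnt : Nontrivial (Subgroup.center S) := hS.center_nontrivial
  have h4 : 1 < Nat.card (Subgroup.center S) := Finite.one_lt_card_iff_nontrivial.mpr hZnt
  have h5 : 0 < Nat.card (commutator S) := Nat.card_pos
  have h6 : Nat.card (Subgroup.zpowers a) = 2 * Nat.card (commutator S) := by omega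
  rw [h6] at h1
  have h7 : Nat.card (Subgroup.center S) ≤ 2 := by
    by_contra hc
    push Not at hc
    nlinarith
  omega

/-- A group of order `2^n`, `n ≥ 2`, whose commutator subgroup has index 4 has class `n - 1`. -/
theorem class_of_index_four : ∀ (n : ℕ) (X : Type u) [Group X] [Finite X], Nat.card X = 2 ^ n →
    2 ≤ n → (commutator X).index = 4 → Group.nilpotencyClass X = n - 1 := by
  intro n
  induction n with
  | zero => intro X _ _ _ h; omega
  | succ n ih =>
  intro X _ _ hcard hn hidx
  have : Fact (Nat.Prime 2) := ⟨Nat.prime_two⟩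
  have hX : IsPGroup 2 X := IsPGroup.of_card hcard
  have hnil : Group.IsNilpotent X := hX.isNilpotent
  have hnt : Nontrivial X := by
    rw [← Finite.one_lt_card_iff_nontrivial, hcard]
    exact Nat.one_lt_two_pow (by omega)
  have hcl := Group.nilpotencyClass_eq_quotient_center_plus_one (G := X)
  by_cases hn1 : n = 1
  · subst hn1
    have hbot : commutator X = ⊥ := by
      have h2 := (commutator X).card_mul_index
      rw [hidx, hcard] at h2
      exact Subgroup.card_eq_one.mp (by omega)
    have hctop := center_eq_top_of_comm (comm_of_commutator_eq_bot hbot)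
    have hsub : Subsingleton (X ⧸ Subgroup.center X) := by
      rw [hctop]; exact QuotientGroup.subsingleton_quotient_top
    have h0 : Group.nilpotencyClass (X ⧸ Subgroup.center X) = 0 :=
      Group.nilpotencyClass_zero_iff_subsingleton.mpr hsub
    omega
  have hZ2 : Nat.card (Subgroup.center X) = 2 := by
    apply card_center_eq_two hX hidx
    rw [hcard]
    intro h
    have : (2 : ℕ) ^ (n + 1) = 2 ^ 2 := by rw [h]; norm_num
    have := Nat.pow_right_injective (le_refl 2) this
    omega
  have hS' : commutator X ≠ ⊥ := by
    intro hbot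
    have hctop := center_eq_top_of_comm (comm_of_commutator_eq_bot hbot)
    rw [hctop, Subgroup.card_top, hcard] at hZ2
    have : (2 : ℕ) ^ (n + 1) = 2 ^ 1 := by rw [hZ2]; norm_num
    have := Nat.pow_right_injective (le_refl 2) this
    omega
  obtain ⟨z, hzS', hzc, hz2⟩ := exists_central_orderOf_eq_prime hX (commutator X) hS'
  have hZle : Subgroup.center X ≤ commutator X := by
    have h1 : Subgroup.zpowers z = Subgroup.center X := by
      apply Subgroup.eq_of_le_of_card_ge (Subgroup.zpowers_le.mpr hzc)
      rw [Nat.card_zpowers, hz2, hZ2]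
    rw [← h1]; exact Subgroup.zpowers_le.mpr hzS'
  have hidxq : (commutator (X ⧸ Subgroup.center X)).index = 4 := by
    rw [commutator_quotient_eq_map, Subgroup.index_map_eq _ (QuotientGroup.mk'_surjective _)
      (by rw [QuotientGroup.ker_mk']; exact hZle), hidx]
  have hq : Nat.card (X ⧸ Subgroup.center X) = 2 ^ n := by
    have hmul := Subgroup.card_eq_card_quotient_mul_card_subgroup (Subgroup.center X)
    rw [hcard, hZ2, pow_succ] at hmul
    omega
  have := ih (X ⧸ Subgroup.center X) hq (by omega) hidxq
  omega

end Cfsg.Agent.Lib.Helper73
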