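import Mathlib

/-!
Polynomial sequences in a filtered group (Lazard–Leibman), and the Hall–Petrescu type
consequence: `(a b)^N = a^N b^N c` with `c` in any subgroup containing all
`u ^ (N.choose j)`, `u ∈ F j`, `j ≥ 2`.
-/

set_option autoImplicit false

namespace Cfsg.Agent.Lib.Helper73.PolySeq

open scoped commutatorElement

variable {G : Type*} [Group G]

/-- discrete derivative of a sequence -/
def der (g : ℕ → G) : ℕ → G := fun n => g (n + 1) * (g n)⁻¹

/-- `IsPoly F k d g`: the first `k` derivatives `∂^j g` take values in `F (d + j)`. -/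
def IsPoly (F : ℕ → Subgroup G) : ℕ → ℕ → (ℕ → G) → Prop
  | 0, d, g => ∀ n, g n ∈ F d
  | k + 1, d, g => (∀ n, g n ∈ F d) ∧ IsPoly F k (d + 1) (der g)

variable {F : ℕ → Subgroup G}

theorem IsPoly.mem {k d : ℕ} {g : ℕ → G} (h : IsPoly F k d g) (n : ℕ) : g n ∈ F d := by
  cases k with
  | zero => exact h n
  | succ k => exact h.1 n

theorem IsPoly.mono_d (hanti : Antitone F) {k : ℕ} : ∀ {d d' : ℕ} {g : ℕ → G}, d' ≤ d →
    IsPoly F k d g → IsPoly F k d' g := by
  induction k with
  | zero => intro d d' g hd h n; exact hanti hd (h n)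
  | succ k ih =>
    intro d d' g hd h
    exact ⟨fun n => hanti hd (h.1 n), ih (Nat.succ_le_succ hd) h.2⟩

theorem IsPoly.pred {k : ℕ} : ∀ {d : ℕ} {g : ℕ → G}, IsPoly F (k + 1) d g → IsPoly F k d g := by
  induction k with
  | zero => intro d g h; exact h.1
  | succ k ih => intro d g h; exact ⟨h.1, ih h.2⟩

theorem der_mul (g h : ℕ → G) : der (g * h) = der g * ⁅g, der h⁆ * der h := by
  funext n
  simp only [der, Pi.mul_apply, commutatorElement_def, Pi.inv_apply]
  group

theorem der_inv (g : ℕ → G) : der g⁻¹ = ⁅g⁻¹, (der g)⁻¹⁆ * (der g)⁻¹ := by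
  funext n
  simp only [der, Pi.mul_apply, commutatorElement_def, Pi.inv_apply]
  group

theorem der_comm (g h : ℕ → G) : der ⁅g, h⁆ =
    (⁅der g, ⁅g, der h⁆⁆ * ⁅g, der h⁆) * ⁅der g * der h, ⁅g, h⁆⁆ *
      (⁅⁅g, h⁆, ⁅der g, der h⁆ * (⁅der h, ⁅der g, h⁆⁆ * ⁅der g, h⁆)⁆ *
        (⁅der g, der h⁆ * (⁅der h, ⁅der g, h⁆⁆ * ⁅der g, h⁆))) := by
  funext n
  simp only [der, Pi.mul_apply, commutatorElement_def, Pi.inv_apply]
  group

theorem isPoly_closure (hF : ∀ i j, ⁅F i, F j⁆ ≤ F (i + j)) (hanti : Antitone F) (k : ℕ) :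
    (∀ d g h, IsPoly F k d g → IsPoly F k d h → IsPoly F k d (g * h)) ∧
    (∀ d g, IsPoly F k d g → IsPoly F k d g⁻¹) ∧
    (∀ d e g h, IsPoly F k d g → IsPoly F k e h → IsPoly F k (d + e) ⁅g, h⁆) := by
  induction k with
  | zero =>
    refine ⟨fun d g h hg hh n => (F d).mul_mem (hg n) (hh n),
      fun d g hg n => (F d).inv_mem (hg n), fun d e g h hg hh n => ?_⟩
    exact hF d e (Subgroup.commutator_mem_commutator (hg n) (hh n))
  | succ k ih =>
    obtain ⟨ihm, ihi, ihc⟩ := ih
    refine ⟨?_, ?_, ?_⟩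
    · intro d g h hg hh
      refine ⟨fun n => (F d).mul_mem (hg.1 n) (hh.1 n), ?_⟩
      rw [der_mul]
      refine ihm _ _ _ (ihm _ _ _ hg.2 ?_) hh.2
      exact (ihc _ _ _ _ hg.pred hh.2).mono_d hanti (by omega)
    · intro d g hg
      refine ⟨fun n => (F d).inv_mem (hg.1 n), ?_⟩
      rw [der_inv]
      refine ihm _ _ _ ?_ (ihi _ _ hg.2)
      exact (ihc _ _ _ _ (ihi _ _ hg.pred) (ihi _ _ hg.2)).mono_d hanti (by omega)
    · intro d e g h hg hh
      refine ⟨fun n => hF d e (Subgroup.commutator_mem_commutator (hg.1 n) (hh.1 n)), ?_⟩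
      rw [der_comm]
      have h1 : IsPoly F k (d + e + 1) ⁅g, der h⁆ :=
        (ihc _ _ _ _ hg.pred hh.2).mono_d hanti (by omega)
      have h2 : IsPoly F k (d + e + 1) ⁅der g, h⁆ :=
        (ihc _ _ _ _ hg.2 hh.pred).mono_d hanti (by omega)
      have h3 : IsPoly F k (d + e + 1) ⁅der g, der h⁆ :=
        (ihc _ _ _ _ hg.2 hh.2).mono_d hanti (by omega)
      have h4 : IsPoly F k (d + e) ⁅g, h⁆ := ihc _ _ _ _ hg.pred hh.pred
      have h5 : IsPoly F k 1 (der g * der h) :=
        ihm _ _ _ (hg.2.mono_d hanti (by omega)) (hh.2.mono_d hanti (by omega))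
      have h6 : IsPoly F k (d + e + 1) (⁅der g, der h⁆ * (⁅der h, ⁅der g, h⁆⁆ * ⁅der g, h⁆)) := by
        refine ihm _ _ _ h3 (ihm _ _ _ ?_ h2)
        exact (ihc _ _ _ _ hh.2 h2).mono_d hanti (by omega)
      refine ihm _ _ _ (ihm _ _ _ (ihm _ _ _ ?_ h1) ?_) (ihm _ _ _ ?_ h6)
      · exact (ihc _ _ _ _ hg.2 h1).mono_d hanti (by omega)
      · exact (ihc _ _ _ _ h5 h4).mono_d hanti (by omega)
      · exact (ihc _ _ _ _ h4 h6).mono_d hanti (by omega)


theorem isPoly_one (k d : ℕ) : IsPoly F k d (1 : ℕ → G) := by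
  induction k generalizing d with
  | zero => intro n; exact (F d).one_mem
  | succ k ih =>
    refine ⟨fun n => (F d).one_mem, ?_⟩
    have : der (1 : ℕ → G) = 1 := by funext n; simp [der]
    rw [this]; exact ih _

/-- the binomial sequence `n ↦ a ^ (n.choose i)` -/
def binom (a : G) (i : ℕ) : ℕ → G := fun n => a ^ (n.choose i)

theorem der_binom_zero (a : G) : der (binom a 0) = 1 := by
  funext n; simp [der, binom]

theorem der_binom_succ (a : G) (i : ℕ) : der (binom a (i + 1)) = binom a i := by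
  funext n
  simp only [der, binom]
  rw [Nat.choose_succ_succ, pow_add, mul_inv_cancel_right]

theorem isPoly_binom (hanti : Antitone F) (k : ℕ) : ∀ (i d : ℕ) (a : G), a ∈ F (d + i) →
    IsPoly F k d (binom a i) := by
  induction k with
  | zero =>
    intro i d a ha n
    exact (F d).pow_mem (hanti (Nat.le_add_right d i) ha) _
  | succ k ih =>
    intro i d a ha
    refine ⟨fun n => (F d).pow_mem (hanti (Nat.le_add_right d i) ha) _, ?_⟩
    cases i with
    | zero => rw [der_binom_zero]; exact isPoly_one _ _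
    | succ i =>
      rw [der_binom_succ]
      exact ih i (d + 1) a (by rwa [show d + 1 + i = d + (i + 1) by ring])

theorem IsPoly.iterate_mem {k : ℕ} : ∀ {d : ℕ} {g : ℕ → G}, IsPoly F k d g → ∀ n,
    (der^[k] g) n ∈ F (d + k) := by
  induction k with
  | zero => intro d g h n; exact h n
  | succ k ih =>
    intro d g h n
    rw [Function.iterate_succ_apply]
    have := ih h.2 n
    rwa [show d + 1 + k = d + (k + 1) by ring] at this

theorem iterate_der_eq_one {g : ℕ → G} {i : ℕ} (hg : ∀ m < i, g m = 1) :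
    ∀ j m, j + m < i → (der^[j] g) m = 1 := by
  intro j
  induction j with
  | zero => intro m hm; exact hg m (by omega)
  | succ j ih =>
    intro m hm
    rw [Function.iterate_succ_apply']
    simp only [der]
    rw [ih (m + 1) (by omega), ih m (by omega)]
    simp

theorem iterate_der_eq {g : ℕ → G} {i : ℕ} (hg : ∀ m < i, g m = 1) :
    ∀ j, j ≤ i → (der^[j] g) (i - j) = g i := by
  intro j
  induction j with
  | zero => intro _; rfl
  | succ j ih =>
    intro hj
    rw [Function.iterate_succ_apply']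
    simp only [der]
    rw [show i - (j + 1) + 1 = i - j by omega, ih (by omega),
      iterate_der_eq_one hg j (i - (j + 1)) (by omega)]
    simp

theorem eq_one_of_iterate_der {j : ℕ} : ∀ {g : ℕ → G}, der^[j] g = 1 →
    (∀ l < j, (der^[l] g) 0 = 1) → g = 1 := by
  induction j with
  | zero => intro g h _; exact h
  | succ j ih =>
    intro g h h0
    have h1 : der g = 1 := by
      apply ih
      · rwa [Function.iterate_succ_apply] at h
      · intro l hl
        have := h0 (l + 1) (by omega)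
        rwa [Function.iterate_succ_apply] at this
    have h2 : g 0 = 1 := h0 0 (by omega)
    funext n
    induction n with
    | zero => exact h2
    | succ n ihn =>
      have := congrFun h1 n
      simp only [der, Pi.one_apply] at this
      rw [ihn] at this
      simpa using this

/-- Taylor expansion, in membership form. -/
theorem taylor_mem (hF : ∀ i j, ⁅F i, F j⁆ ≤ F (i + j)) (hanti : Antitone F) {c : ℕ}
    (hc : F c = ⊥) (U : Subgroup G) (N : ℕ) (r : ℕ) : ∀ (i : ℕ), i + r = c → ∀ (g : ℕ → G),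
    (∀ k, IsPoly F k 0 g) → (∀ m < i, g m = 1) →
    (∀ j, i ≤ j → ∀ a ∈ F j, a ^ (N.choose j) ∈ U) → g N ∈ U := by
  induction r with
  | zero =>
    intro i hi g hg h0 _
    have : g = 1 := by
      apply eq_one_of_iterate_der (j := c)
      · funext n
        have := (hg c).iterate_mem n
        rw [zero_add, hc] at this
        exact this
      · intro l hl
        exact iterate_der_eq_one h0 l 0 (by omega)
    rw [this]; exact U.one_mem
  | succ r ih =>
    intro i hi g hg h0 hU
    have ha : g i ∈ F i := by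
      have h1 := (hg i).iterate_mem 0
      rw [zero_add] at h1
      have h2 := iterate_der_eq h0 i le_rfl
      rw [Nat.sub_self] at h2
      rwa [h2] at h1
    have hg' : ∀ k, IsPoly F k 0 ((binom (g i) i)⁻¹ * g) := by
      intro k
      obtain ⟨hm, hi', _⟩ := isPoly_closure hF hanti k
      exact hm _ _ _ (hi' _ _ (isPoly_binom hanti k i 0 _ (by rwa [zero_add]))) (hg k)
    have h0' : ∀ m < i + 1, ((binom (g i) i)⁻¹ * g) m = 1 := by
      intro m hm
      simp only [Pi.mul_apply, Pi.inv_apply, binom]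
      rcases Nat.lt_succ_iff_lt_or_eq.1 hm with h | h
      · rw [h0 m h, Nat.choose_eq_zero_of_lt h]; simp
      · rw [h, Nat.choose_self]; simp
    have := ih (i + 1) (by omega) _ hg' h0' (fun j hj a ha => hU j (by omega) a ha)
    simp only [Pi.mul_apply, Pi.inv_apply, binom] at this
    have h3 := U.mul_mem (hU i le_rfl _ ha) this
    rwa [mul_inv_cancel_left] at h3

/-- Hall–Petrescu in membership form. -/
theorem hall_petrescu (hF : ∀ i j, ⁅F i, F j⁆ ≤ F (i + j)) (hanti : Antitone F) {c : ℕ}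
    (hc2 : 2 ≤ c) (hc : F c = ⊥) (U : Subgroup G) (N : ℕ)
    (hU : ∀ j, 2 ≤ j → ∀ a ∈ F j, a ^ (N.choose j) ∈ U) {a b : G} (ha : a ∈ F 1) (hb : b ∈ F 1) :
    ∃ u ∈ U, (a * b) ^ N = a ^ N * b ^ N * u := by
  have hpow : ∀ x : G, binom x 1 = fun n => x ^ n := by
    intro x; funext n; simp [binom]
  have hg : ∀ k, IsPoly F k 0 ((binom b 1)⁻¹ * (binom a 1)⁻¹ * binom (a * b) 1) := by
    intro k
    obtain ⟨hm, hi', _⟩ := isPoly_closure hF hanti k
    refine hm _ _ _ (hm _ _ _ (hi' _ _ ?_) (hi' _ _ ?_)) ?_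
    · exact isPoly_binom hanti k 1 0 _ (by simpa using hb)
    · exact isPoly_binom hanti k 1 0 _ (by simpa using ha)
    · exact isPoly_binom hanti k 1 0 _ (by simpa using (F 1).mul_mem ha hb)
  have h0 : ∀ m < 2, ((binom b 1)⁻¹ * (binom a 1)⁻¹ * binom (a * b) 1) m = 1 := by
    intro m hm
    simp only [hpow, Pi.mul_apply, Pi.inv_apply]
    interval_cases m
    · simp
    · simp
  have := taylor_mem hF hanti hc U N (c - 2) 2 (by omega) _ hg h0 hU
  refine ⟨_, this, ?_⟩
  simp only [hpow, Pi.mul_apply, Pi.inv_apply]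
  group

end Cfsg.Agent.Lib.Helper73.PolySeq
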