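import Cfsg.Agent.Lib.Helper53.Zas.Basic
import Cfsg.Agent.S0106

/-!
# Piece P3 of the Zassenhaus theorem (S0690): `three_dvd` and `exists_TD`
-/

set_option autoImplicit false

namespace Cfsg.Agent.Lib.Helper73.ZasP3

open Subgroup Cfsg.Agent.Lib.Helper53.Zas

variable {G : Type*} [Group G] [Finite G]

theorem three_dvd_card_SL23 : 3 ∣ Nat.card (Matrix.SpecialLinearGroup (Fin 2) (ZMod 3)) := by
  let u : Matrix.SpecialLinearGroup (Fin 2) (ZMod 3) :=
    ⟨!![1, 1; 0, 1], by simp [Matrix.det_fin_two]⟩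
  have h3 : u ^ 3 = 1 := by decide
  have h1 : u ≠ 1 := by
    intro h
    have := congrArg (fun m : Matrix.SpecialLinearGroup (Fin 2) (ZMod 3) => m.1 0 1) h
    revert this
    simp [u]
  have : Fact (Nat.Prime 3) := ⟨Nat.prime_three⟩
  have h4 := orderOf_eq_prime h3 h1
  have h5 := _root_.orderOf_dvd_natCard u
  rwa [h4] at h5

theorem false_of_sylow_two_cyclic (h : ZHyp G) (hperf : commutator G = ⊤) [Nontrivial G]
    (T : Sylow 2 G) (hT : IsCyclic T) : False := by
  have hZ : IsZGroup G := by
    refine ⟨fun p hp P => ?_⟩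
    have : Fact p.Prime := ⟨hp⟩
    rcases Cfsg.Agent.Lib.Helper25.sylow_cyclic_or_quaternion_of_key h.key0 p P with h1 | ⟨rfl, -⟩
    · exact h1
    · exact isCyclic_of_surjective (Sylow.equiv T P) (Sylow.equiv T P).surjective
  exact (IsZGroup.commutator_lt (G := G)).ne hperf

theorem three_dvd (h : ZHyp G) (hperf : commutator G = ⊤) [Nontrivial G] : 3 ∣ Nat.card G := by
  have : Fact (Nat.Prime 2) := ⟨Nat.prime_two⟩
  let T : Sylow 2 G := default
  rcases Cfsg.Agent.Lib.Helper25.sylow_cyclic_or_quaternion_of_key h.key0 2 T with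
    h1 | ⟨-, n, ⟨e⟩⟩
  · exact (false_of_sylow_two_cyclic h hperf T h1).elim
  · rcases Nat.eq_zero_or_pos n with rfl | hn
    · exfalso
      apply false_of_sylow_two_cyclic h hperf T
      have : IsCyclic (QuaternionGroup (2 ^ 0)) := by
        rw [pow_zero]; exact QuaternionGroup.quaternionGroup_one_isCyclic
      exact isCyclic_of_surjective e.symm e.symm.surjective
    · rcases Cfsg.Agent.S0106.result T n hn ⟨e⟩ with ⟨P, N, hN, hc⟩ | ⟨H, K, hK, ⟨f⟩⟩
      · exfalso
        have hidx : N.index = Nat.card P := hc.symm.index_eq_card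
        have hpg : IsPGroup 2 (G ⧸ N) := by
          obtain ⟨k, hk⟩ := IsPGroup.iff_card.1 P.isPGroup'
          apply IsPGroup.of_card (n := k)
          rw [← hk, ← hidx]; rfl
        have hnil : Group.IsNilpotent (G ⧸ N) := hpg.isNilpotent
        have hsol : Group.IsSolvable (G ⧸ N) := inferInstance
        have hperf' : commutator (G ⧸ N) = ⊤ := by
          have h2 := Subgroup.map_commutator (⊤ : Subgroup G) ⊤ (QuotientGroup.mk' N)
          rw [← _root_.commutator_def, hperf, ← MonoidHom.range_eq_map,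
            MonoidHom.range_eq_top.2 (QuotientGroup.mk'_surjective N), ← _root_.commutator_def] at h2
          exact h2.symm
        have hsub : Subsingleton (G ⧸ N) := by
          by_contra hns
          rw [not_subsingleton_iff_nontrivial] at hns
          exact (Group.IsSolvable.commutator_lt_top_of_nontrivial (G ⧸ N)).ne hperf'
        have hi1 : N.index = 1 := by
          rw [Subgroup.index]; exact Nat.card_eq_one_iff_unique.2 ⟨hsub, ⟨1⟩⟩
        have hcT : Nat.card T = Nat.card P := Nat.card_congr (Sylow.equiv T P).toEquiv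
        have hcQ : Nat.card T = 4 * 2 ^ n := by
          have : NeZero (2 ^ n) := ⟨by positivity⟩
          rw [Nat.card_congr e.toEquiv, Nat.card_eq_fintype_card, QuaternionGroup.card]
        have : 0 < 2 ^ n := by positivity
        omega
      · have h1 : 3 ∣ Nat.card (H ⧸ K.subgroupOf H) := by
          rw [Nat.card_congr f.toEquiv]; exact three_dvd_card_SL23
        exact (h1.trans (Subgroup.card_quotient_dvd_card _)).trans (Subgroup.card_subgroup_dvd_card H)

theorem exists_TD (h : ZHyp G) (hperf : commutator G = ⊤) [Nontrivial G]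
    (hP1a : ∀ (A : Subgroup G) [A.Normal], IsCyclic A → A ≤ center G)
    (hP1b : ∀ {p : ℕ}, p.Prime → p ≠ 2 → ∀ {c : G}, orderOf c = p → c ∈ center G → False)
    (hP2 : ∀ {w w' : G}, w ^ 3 = 1 → w' ^ 3 = 1 → w * w' ≠ w' * w →
      ∃ i j d : G, i ∈ closure {w, w'} ∧ j ∈ closure {w, w'} ∧ d ∈ closure {w, w'} ∧ TD i j d) :
    ∃ i j d : G, TD i j d := by
  have : Fact (Nat.Prime 3) := ⟨Nat.prime_three⟩
  obtain ⟨w, hw⟩ := exists_prime_orderOf_dvd_card' 3 (three_dvd h hperf)
  have hw3 : w ^ 3 = 1 := by rw [← hw]; exact pow_orderOf_eq_one w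
  by_cases hall : ∀ g : G, w * (g * w * g⁻¹) = (g * w * g⁻¹) * w
  · exfalso
    have hconj : ∀ g : G, g * w * g⁻¹ ∈ zpowers w := by
      intro g
      apply h.mem_zpowers _ (hall g)
      have : orderOf (g * w * g⁻¹) = orderOf w :=
        orderOf_injective (MulAut.conj g).toMonoidHom (MulAut.conj g).injective w
      rw [this]
    have hn : (zpowers w).Normal := by
      refine ⟨fun x hx g => ?_⟩
      obtain ⟨k, rfl⟩ := Subgroup.mem_zpowers_iff.1 hx
      have : g * w ^ k * g⁻¹ = (g * w * g⁻¹) ^ k := by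
        simp
      rw [this]
      exact zpow_mem (hconj g) k
    have hc := hP1a (zpowers w) inferInstance (mem_zpowers w)
    exact hP1b Nat.prime_three (by norm_num) hw hc
  · push Not at hall
    obtain ⟨g, hg⟩ := hall
    have hw3' : (g * w * g⁻¹) ^ 3 = 1 := by
      rw [conj_pow, hw3]; group
    obtain ⟨i, j, d, -, -, -, hT⟩ := hP2 hw3 hw3' hg
    exact ⟨i, j, d, hT⟩

end Cfsg.Agent.Lib.Helper73.ZasP3
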