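import Cfsg.Agent.Lib.Helper68.RO.Defs

/-!
# Clifford correspondence preserves "real of odd degree" (piece B2 of helper68's S4581 farm)
-/

set_option autoImplicit false
set_option linter.unusedSectionVars false
set_option linter.style.haveILetI false

namespace Cfsg.Agent.Lib.Helper73.RO

open Cfsg Cfsg.Agent.Lib Cfsg.Agent.Lib.Helper15 Cfsg.Agent.Lib.Helper68.RO
open scoped ComplexConjugate

theorem indFun_conj' {L : Type*} [Group L] [Fintype L] (K : Subgroup L) (θ : K → ℂ) :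
    indFun K (fun x => conj (θ x)) = fun g => conj (indFun K θ g) := by
  funext g
  rw [indFun_apply, indFun_apply, map_mul, map_inv₀, Complex.conj_natCast, map_sum]
  congr 1
  apply Finset.sum_congr rfl
  intro x _
  by_cases hy : x⁻¹ * g * x ∈ K
  · rw [extendByZero_mem K _ hy, extendByZero_mem K _ hy]
  · rw [extendByZero_not_mem K _ hy, extendByZero_not_mem K _ hy, map_zero]

variable {G : Type*} [Group G] [Fintype G]

theorem relInd_conj (T K : Subgroup G) [Fintype K] (ψ : T → ℂ) :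
    relInd T K (fun x => conj (ψ x)) = fun g => conj (relInd T K ψ g) := by
  unfold relInd
  rw [← indFun_conj']
  rfl

theorem real_iff_conj {X : Type*} (f : X → ℂ) :
    (∀ x, (f x).im = 0) ↔ (fun x => conj (f x)) = f := by
  constructor
  · intro h
    funext x
    exact Complex.conj_eq_iff_im.2 (h x)
  · intro h x
    exact Complex.conj_eq_iff_im.1 (congrFun h x)

variable (M : Subgroup G) [M.Normal] [Fintype M]

theorem rOver_clifford (P : Sylow 2 G) {X T : Subgroup G} (hMT : M ≤ T) (hTX : T ≤ X)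
    (hPT : (P : Subgroup G) ≤ T) {lam : M → ℂ} (hlam : IsIrrCharacter M lam)
    (hreal : ∀ m, (lam m).im = 0) (hT : T = X ⊓ inertia M lam) :
    rOver (hMT.trans hTX) lam = rOver hMT lam := by
  classical
  haveI := Fintype.ofFinite X
  haveI := Fintype.ofFinite T
  obtain ⟨c1, c2, c3, c4⟩ := rel_clifford_correspondence hMT hTX hlam hT
  have hodd : Odd (T.relIndex X) := by
    have h1 : T.relIndex X ∣ (P : Subgroup G).index :=
      (Dvd.intro _ (Subgroup.relIndex_mul_index hTX)).trans (Subgroup.index_dvd_of_le hPT)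
    have h2 : ¬ 2 ∣ (P : Subgroup G).index := P.not_dvd_index
    rw [← Nat.not_even_iff_odd, even_iff_two_dvd]
    exact fun h => h2 (h.trans h1)
  have hdeg : ∀ ψ : T → ℂ, IsCharacter T ψ →
      charDegree (relInd T X ψ) = T.relIndex X * charDegree ψ := by
    intro ψ hψ
    have h1 := relInd_one (K := X) ψ
    rw [Helper80.char_one_eq_charDegree hψ,
      Helper80.char_one_eq_charDegree (char_relInd hTX hψ)] at h1
    exact_mod_cast h1
  have hlamc : (fun m => conj (lam m)) = lam := (real_iff_conj lam).1 hreal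
  have hoverc : ∀ ψ : T → ℂ, classInner (resFun hMT ψ) lam ≠ 0 →
      classInner (resFun hMT (fun x => conj (ψ x))) lam ≠ 0 := by
    intro ψ h
    have h1 := classInner_conj_conj (resFun hMT ψ) lam
    rw [hlamc] at h1
    have h2 : (fun x => conj (resFun hMT ψ x)) = resFun hMT (fun x => conj (ψ x)) := rfl
    rw [h2] at h1
    rw [h1]
    exact (map_ne_zero _).2 h
  have hinj : ∀ ψ ψ' : T → ℂ, IsIrrCharacter T ψ → IsIrrCharacter T ψ' →
      classInner (resFun hMT ψ) lam ≠ 0 → classInner (resFun hMT ψ') lam ≠ 0 →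
      relInd T X ψ = relInd T X ψ' → ψ = ψ' := by
    intro ψ ψ' h1 h2 h3 h4 h5
    by_contra hne
    have h6 := c2 ψ ψ' h1 h2 h3 h4 hne
    rw [← h5, irr_inner_self (c1 ψ h1 h3)] at h6
    exact one_ne_zero h6
  unfold rOver
  symm
  refine Nat.card_congr (Equiv.ofBijective
    (fun ψ : {ψ : IrrCharacter T // RealOdd (ψ : T → ℂ) ∧
        classInner (resFun hMT (ψ : T → ℂ)) lam ≠ 0} =>
      (⟨⟨relInd T X (ψ.1 : T → ℂ), c1 _ ψ.1.2 ψ.2.2⟩, ⟨?_, ?_⟩, ?_⟩ :
        {χ : IrrCharacter X // RealOdd (χ : X → ℂ) ∧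
          classInner (resFun (hMT.trans hTX) (χ : X → ℂ)) lam ≠ 0})) ⟨?_, ?_⟩)
  · rw [real_iff_conj]
    change (fun g => conj (relInd T X (ψ.1 : T → ℂ) g)) = relInd T X (ψ.1 : T → ℂ)
    rw [← relInd_conj, (real_iff_conj _).1 ψ.2.1.1]
  · change Odd (charDegree (relInd T X (ψ.1 : T → ℂ)))
    rw [hdeg _ (irr_char ψ.1.2)]
    exact hodd.mul ψ.2.1.2
  · change classInner (resFun (hMT.trans hTX) (relInd T X (ψ.1 : T → ℂ))) lam ≠ 0
    rw [c3 _ ψ.1.2 ψ.2.2]
    exact ψ.2.2
  · intro ψ ψ' h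
    have h1 : relInd T X (ψ.1 : T → ℂ) = relInd T X (ψ'.1 : T → ℂ) :=
      congrArg (fun z => (z.1 : X → ℂ)) h
    exact Subtype.ext (Subtype.ext (hinj _ _ ψ.1.2 ψ'.1.2 ψ.2.2 ψ'.2.2 h1))
  · rintro ⟨χ, ⟨hχr, hχo⟩, hχl⟩
    obtain ⟨ψ, hψ, hψl, hψχ⟩ := c4 χ χ.2 hχl
    have hψc : IsIrrCharacter T (fun x => conj (ψ x)) := Helper81.IsIrrCharacter.star hψ
    have hr : (fun x => conj (ψ x)) = ψ := by
      apply hinj _ _ hψc hψ (hoverc ψ hψl) hψl
      rw [relInd_conj, hψχ]
      exact (real_iff_conj _).1 hχr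
    have ho : Odd (charDegree ψ) := by
      rw [← hψχ, hdeg _ (irr_char hψ)] at hχo
      exact (Nat.odd_mul.1 hχo).2
    exact ⟨⟨⟨ψ, hψ⟩, ⟨(real_iff_conj _).2 hr, ho⟩, hψl⟩, Subtype.ext (Subtype.ext hψχ)⟩

end Cfsg.Agent.Lib.Helper73.RO
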