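import Cfsg.Agent.Lib.Helper68.RO.Defs

/-!
# A real extension by transfer (piece B3iii of helper68's S4581 farm)
-/

set_option autoImplicit false
set_option linter.unusedSectionVars false
set_option linter.style.haveILetI false

namespace Cfsg.Agent.Lib.Helper73.RO

open Cfsg Cfsg.Agent.Lib Cfsg.Agent.Lib.Helper15 Cfsg.Agent.Lib.Helper68.RO
open scoped ComplexConjugate

theorem transfer_sq {X A : Type*} [Group X] [CommGroup A] {H : Subgroup X} [H.FiniteIndex]
    (ϕ : H →* A) (h : ∀ x, ϕ x ^ 2 = 1) (g : X) : MonoidHom.transfer ϕ g ^ 2 = 1 := by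
  classical
  have : Fintype (Quotient (MulAction.orbitRel (Subgroup.zpowers g) (X ⧸ H))) :=
    Fintype.ofFinite _
  rw [MonoidHom.transfer_eq_prod_quotient_orbitRel_zpowers_quot, ← Finset.prod_pow]
  exact Finset.prod_eq_one fun q _ => h _

variable {G : Type*} [Group G] [Fintype G] (M : Subgroup G) [M.Normal] [Fintype M]

theorem exists_real_ext (P : Sylow 2 G) {T : Subgroup G} (hMP : M ≤ (P : Subgroup G))
    (hPT : (P : Subgroup G) ≤ T) {lam : M → ℂ} (hlam : IsIrrCharacter M lam)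
    (hlam1 : lam 1 = 1) (hinv : ∀ t ∈ T, cj M t lam = lam) (hext : HasRealExt hMP lam) :
    ∃ ν : T → ℂ, IsIrrCharacter T ν ∧ ν 1 = 1 ∧ (∀ t, (ν t).im = 0) ∧
      resFun (hMP.trans hPT) ν = lam := by
  classical
  obtain ⟨μ, hμ, hμr, hμl⟩ := hext
  have hμ1 : μ 1 = 1 := by
    rw [← hlam1, ← hμl]
    rfl
  obtain ⟨f₀, hf₀⟩ := exists_toFn (irr_char hμ) hμ1
  have hsq₀ : ∀ x, f₀ x ^ 2 = 1 := by
    intro x
    apply Units.ext
    have h1 := linear_mul_conj (irr_char hμ) hμ1 x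
    rw [Complex.conj_eq_iff_im.2 (hμr x), hf₀, toFn_apply] at h1
    rw [pow_two]
    exact h1
  let H : Subgroup T := (P : Subgroup G).subgroupOf T
  let N : Subgroup T := M.subgroupOf T
  have hNH : N ≤ H := by
    intro x hx
    exact hMP hx
  let ν₀ : H →* ℂˣ := f₀.comp (Subgroup.subgroupOfEquivOfLe hPT).toMonoidHom
  let f : N →* ℂˣ := ν₀.comp (Subgroup.inclusion hNH)
  have hfl : ∀ n : N, ((f n : ℂˣ) : ℂ) = lam ⟨((n : T) : G), n.2⟩ := by
    intro n
    rw [← hμl, hf₀]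
    rfl
  have hodd : Odd H.index := by
    have h1 : H.index ∣ (P : Subgroup G).index :=
      Dvd.intro _ (Subgroup.relIndex_mul_index hPT)
    have h2 : ¬ 2 ∣ (P : Subgroup G).index := P.not_dvd_index
    rw [← Nat.not_even_iff_odd, even_iff_two_dvd]
    exact fun h => h2 (h.trans h1)
  have hτN : ∀ n : N, MonoidHom.transfer ν₀ (n : T) = f n := by
    intro n
    rw [transfer_restrict N hNH f ν₀ (fun _ => rfl) ?_ n]
    · obtain ⟨k, hk⟩ := hodd
      have : f n ^ 2 = 1 := hsq₀ _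
      rw [hk, pow_succ, pow_mul, this, one_pow, one_mul]
    · intro g n
      apply Units.ext
      rw [hfl, hfl]
      exact congrFun (hinv g g.2) ⟨((n : T) : G), n.2⟩
  have hτsq : ∀ t, MonoidHom.transfer ν₀ t ^ 2 = 1 := transfer_sq ν₀ (fun x => hsq₀ _)
  refine ⟨toFn (MonoidHom.transfer ν₀), irr_of_linear (char_toFn _) (toFn_one' _), toFn_one' _,
    ?_, ?_⟩
  · intro t
    have h1 : ((MonoidHom.transfer ν₀ t : ℂˣ) : ℂ) ^ 2 = 1 := by
      have := congrArg (fun u : ℂˣ => (u : ℂ)) (hτsq t)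
      simpa using this
    rw [toFn_apply]
    have h2 : (((MonoidHom.transfer ν₀ t : ℂˣ) : ℂ) - 1) * (((MonoidHom.transfer ν₀ t : ℂˣ) : ℂ) + 1) = 0 := by
      linear_combination h1
    rcases mul_eq_zero.mp h2 with h | h
    · rw [sub_eq_zero.mp h]; simp
    · rw [eq_neg_of_add_eq_zero_left h]; simp
  · funext m
    have h1 := hτN ⟨⟨(m : G), (hMP.trans hPT) m.2⟩, m.2⟩
    change ((MonoidHom.transfer ν₀ ⟨(m : G), (hMP.trans hPT) m.2⟩ : ℂˣ) : ℂ) = lam m
    rw [h1, hfl]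

end Cfsg.Agent.Lib.Helper73.RO
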