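import Mathlib
import Cfsg.Agent.Lib.Helper75.TIC2
import Cfsg.Agent.Lib.Helper96.BaerSuzuki
import Cfsg.Prelude.Def_Transfer

/-!
# Bender's counting lemma: the normal elementary abelian 2-subgroup (piece B2b)
-/

set_option autoImplicit false
set_option linter.unusedSectionVars false
set_option linter.style.haveILetI false

namespace Cfsg.Agent.Lib.Helper73.Bend

open Cfsg.Agent.Lib.Helper75 Cfsg.Agent.Lib.Helper75.Bend
open scoped Pointwise

variable {G : Type*} [Group G] [Finite G] {M : Subgroup G} {z : G}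

/-- involutions not conjugate to `z` -/
def FF (z y : G) : Prop := orderOf y = 2 ∧ ¬ IsConj z y

theorem orderOf_conj' (g y : G) : orderOf (g * y * g⁻¹) = orderOf y :=
  (MulAut.conj g).orderOf_eq y

theorem FF.conj {y : G} (hy : FF z y) (g : G) : FF z (g * y * g⁻¹) := by
  refine ⟨by rw [orderOf_conj']; exact hy.1, fun hc => hy.2 (hc.trans ?_)⟩
  exact (isConj_iff.2 ⟨g, rfl⟩ : IsConj y (g * y * g⁻¹)).symm

/-- (1) no conjugate of an element of `FF` normalises `M` -/
theorem FF.not_mem_N (h : TIC M z) {y : G} (hy : FF z y) :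
    y ∉ Subgroup.normalizer (M : Set G) := by
  intro hyN
  obtain ⟨m, _, rfl⟩ := h.invol_conj hyN hy.1
  exact hy.2 (isConj_iff.2 ⟨m, rfl⟩)

/-- (2) an element of odd prime order lies in a conjugate of `M` -/
theorem exists_conj_mem (k : ℕ) (hG : Nat.card G = 2 * Nat.card M * 2 ^ k) {p : ℕ}
    (hp : p.Prime) (hp2 : p ≠ 2) {x : G} (hx : orderOf x = p) : ∃ g : G, g * x * g⁻¹ ∈ M := by
  haveI : Fact p.Prime := ⟨hp⟩
  have hidx : M.index = 2 ^ (k + 1) := by
    have h1 := M.card_mul_index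
    rw [hG] at h1
    have hpos : 0 < Nat.card M := Nat.card_pos
    have : Nat.card M * M.index = Nat.card M * 2 ^ (k + 1) := by rw [h1, pow_succ]; ring
    exact Nat.eq_of_mul_eq_mul_left hpos this
  obtain ⟨P⟩ : Nonempty (Sylow p M) := inferInstance
  have hPp : IsPGroup p ((P : Subgroup M).map M.subtype) := P.isPGroup'.map _
  have hnd : ¬ p ∣ ((P : Subgroup M).map M.subtype).index := by
    rw [Subgroup.index_map_subtype, hidx]
    intro hd
    rcases (Nat.Prime.dvd_mul hp).1 hd with hd | hd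
    · exact P.not_dvd_index hd
    · exact hp2 ((Nat.prime_dvd_prime_iff_eq hp Nat.prime_two).1 (hp.dvd_of_dvd_pow hd))
  let P' : Sylow p G := hPp.toSylow hnd
  have hxp : IsPGroup p (Subgroup.zpowers x) := by
    apply IsPGroup.of_card (n := 1)
    rw [Nat.card_zpowers, hx, pow_one]
  obtain ⟨Q, hQ⟩ := hxp.exists_le_sylow
  obtain ⟨g, hg⟩ := MulAction.exists_smul_eq G Q P'
  refine ⟨g, ?_⟩
  have hxQ : x ∈ Q := hQ (Subgroup.mem_zpowers x)
  have h1 : g * x * g⁻¹ ∈ (g • Q : Sylow p G) := by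
    rw [← SetLike.mem_coe, ← Sylow.coe_coe, Sylow.coe_subgroup_smul]
    exact ⟨x, hxQ, rfl⟩
  rw [hg] at h1
  obtain ⟨m, _, hm⟩ := (IsPGroup.mem_toSylow hPp hnd).1 h1
  rw [← hm]
  exact m.2

/-- (3) the product of two elements of `FF` has 2-power order -/
theorem FF.mul_pow (h : TIC M z) (k : ℕ) (hG : Nat.card G = 2 * Nat.card M * 2 ^ k) {y y' : G}
    (hy : FF z y) (hy' : FF z y') : ∃ j : ℕ, orderOf (y * y') = 2 ^ j := by
  by_contra hcon
  set w := y * y' with hw
  have hw0 : orderOf w ≠ 0 := (orderOf_pos w).ne'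
  obtain ⟨p, hp, hpd, hp2⟩ : ∃ p : ℕ, p.Prime ∧ p ∣ orderOf w ∧ p ≠ 2 := by
    by_contra hno
    push Not at hno
    apply hcon
    exact ⟨_, Nat.eq_prime_pow_of_unique_prime_dvd hw0 (fun {d} hd hdd => hno d hd hdd)⟩
  obtain ⟨c, hc⟩ := hpd
  have hc0 : 0 < c := by
    rcases Nat.eq_zero_or_pos c with rfl | hc0
    · rw [mul_zero] at hc; exact absurd hc hw0
    · exact hc0
  set x := w ^ c with hx
  have hxo : orderOf x = p := by
    rw [hx, orderOf_pow' w hc0.ne', hc, Nat.gcd_eq_right (Dvd.intro_left p rfl),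
      Nat.mul_div_cancel _ hc0]
  have hyi : y⁻¹ = y := inv_of_orderOf_two hy.1
  have hyy : y * y = 1 := mul_self_of_orderOf_two hy.1
  have hy'i : y'⁻¹ = y' := inv_of_orderOf_two hy'.1
  have hinvw : y * w * y⁻¹ = w⁻¹ := by
    rw [hw, mul_inv_rev, hyi, hy'i, ← mul_assoc, hyy, one_mul]
  have hinvx : y * x * y⁻¹ = x⁻¹ := by
    rw [hx, conj_pow.symm, hinvw, inv_pow]
  obtain ⟨g, hg⟩ := exists_conj_mem k hG hp hp2 hxo
  have hx1 : x ≠ 1 := by
    intro h1
    rw [h1, orderOf_one] at hxo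
    exact hp.one_lt.ne hxo
  have hg1 : g * x * g⁻¹ ≠ 1 := by
    intro h1
    apply hx1
    have : x = g⁻¹ * (g * x * g⁻¹) * g := by group
    rw [this, h1]; group
  have hmem : (g * y * g⁻¹) * (g * x * g⁻¹) * (g * y * g⁻¹)⁻¹ ∈ M := by
    have : (g * y * g⁻¹) * (g * x * g⁻¹) * (g * y * g⁻¹)⁻¹ = g * (y * x * y⁻¹) * g⁻¹ := by group
    rw [this, hinvx]
    have : g * x⁻¹ * g⁻¹ = (g * x * g⁻¹)⁻¹ := by group
    rw [this]
    exact M.inv_mem hg
  exact (hy.conj g).not_mem_N h (h.ti _ _ hg hg1 hmem)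

/-- (4) an element of `FF` lies in every Sylow 2-subgroup -/
theorem FF.mem_sylow (h : TIC M z) (k : ℕ) (hG : Nat.card G = 2 * Nat.card M * 2 ^ k) {y : G}
    (hy : FF z y) (S : Sylow 2 G) : y ∈ S := by
  have key : ∀ g : G, IsPGroup 2 ↥(Subgroup.zpowers y ⊔ MulAut.conj g • Subgroup.zpowers y) := by
    intro g
    set y' := g * y * g⁻¹ with hy'
    have hFy' : FF z y' := hy.conj g
    obtain ⟨j, hj⟩ := hy.mul_pow h k hG hFy'
    have h1 : IsPGroup 2 (Subgroup.zpowers y) := by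
      apply IsPGroup.of_card (n := 1)
      rw [Nat.card_zpowers, hy.1, pow_one]
    have h2 : IsPGroup 2 (Subgroup.zpowers (y * y')) := by
      apply IsPGroup.of_card (n := j)
      rw [Nat.card_zpowers, hj]
    have hyi : y⁻¹ = y := inv_of_orderOf_two hy.1
    have hyy : y * y = 1 := mul_self_of_orderOf_two hy.1
    have hy'i : y'⁻¹ = y' := inv_of_orderOf_two hFy'.1
    have hinvw : y * (y * y') * y⁻¹ = (y * y')⁻¹ := by
      rw [mul_inv_rev, hyi, hy'i, ← mul_assoc, hyy, one_mul]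
    have hconj : ∀ n ∈ Subgroup.zpowers (y * y'), y * n * y⁻¹ ∈ Subgroup.zpowers (y * y') := by
      rintro _ ⟨i, rfl⟩
      refine ⟨-i, ?_⟩
      show (y * y') ^ (-i) = y * (y * y') ^ i * y⁻¹
      rw [← conj_zpow, hinvw, inv_zpow, zpow_neg]
    have h3 : Subgroup.zpowers y ≤ Subgroup.normalizer (Subgroup.zpowers (y * y') : Set G) := by
      rw [Subgroup.zpowers_le, Subgroup.mem_normalizer_iff]
      intro n
      refine ⟨hconj n, fun hn => ?_⟩
      have := hconj _ hn
      have e : y * (y * n * y⁻¹) * y⁻¹ = n := by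
        rw [hyi]
        calc y * (y * n * y) * y = (y * y) * n * (y * y) := by group
          _ = n := by rw [hyy]; group
      rwa [e] at this
    refine (h1.to_sup_of_normal_right' h2 h3).to_le ?_
    refine sup_le le_sup_left ?_
    rintro _ ⟨_, ⟨i, rfl⟩, rfl⟩
    have e : (MulAut.conj g • (y ^ i) : G) = y' ^ i := by
      rw [MulAut.smul_def, MulAut.conj_apply, hy', conj_zpow]
    show (MulAut.conj g • (y ^ i) : G) ∈ _
    rw [e]
    apply Subgroup.zpow_mem
    have hmm : y⁻¹ * (y * y') ∈ Subgroup.zpowers y ⊔ Subgroup.zpowers (y * y') :=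
      Subgroup.mul_mem _ (Subgroup.inv_mem _ (Subgroup.mem_sup_left (Subgroup.mem_zpowers y)))
        (Subgroup.mem_sup_right (Subgroup.mem_zpowers _))
    rwa [inv_mul_cancel_left] at hmm
  have := Cfsg.Agent.Lib.Helper96.baerSuzuki_le_sylow (Subgroup.zpowers y) key S 1
  apply this
  rw [map_one, one_smul]
  exact Subgroup.mem_zpowers y

theorem card_N_of (h : TIC M z)
    (hD : ∀ n ∈ Subgroup.normalizer (M : Set G), n ∈ M ∨ n * z ∈ M) :
    Nat.card ↥(Subgroup.normalizer (M : Set G)) = 2 * Nat.card M := by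
  have hidx : (M.subgroupOf (Subgroup.normalizer (M : Set G))).index = 2 := by
    rw [Subgroup.index_eq_two_iff]
    refine ⟨⟨z, h.zN⟩, fun b => ?_⟩
    simp only [Subgroup.mem_subgroupOf, Subgroup.coe_mul]
    rcases hD b b.2 with hb | hb
    · refine Or.inr ⟨hb, fun hbz => h.z_not_mem ?_⟩
      have : z = (b : G)⁻¹ * ((b : G) * z) := by group
      rw [this]
      exact M.mul_mem (M.inv_mem hb) hbz
    · refine Or.inl ⟨hb, fun hbM => h.z_not_mem ?_⟩
      have : z = (b : G)⁻¹ * ((b : G) * z) := by group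
      rw [this]
      exact M.mul_mem (M.inv_mem hbM) hb
  have h1 := (M.subgroupOf (Subgroup.normalizer (M : Set G))).card_mul_index
  rw [hidx, Nat.card_congr (Subgroup.subgroupOfEquivOfLe Subgroup.le_normalizer).toEquiv] at h1
  omega

/-- B2b -/
theorem exists_E (h : TIC M z)
    (hD : ∀ n ∈ Subgroup.normalizer (M : Set G), n ∈ M ∨ n * z ∈ M) (k : ℕ)
    (hG : Nat.card G = 2 * Nat.card M * 2 ^ k)
    (hF : Nat.card {y : G // orderOf y = 2 ∧ ¬ IsConj z y} = 2 ^ k - 1) :
    ∃ E : Subgroup G, E.Normal ∧ Cfsg.IsElementaryAbelian 2 E ∧ Nat.card E = 2 ^ k ∧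
      E ⊓ Subgroup.normalizer (M : Set G) = ⊥ ∧ E ⊔ Subgroup.normalizer (M : Set G) = ⊤ := by
  obtain ⟨S⟩ : Nonempty (Sylow 2 G) := inferInstance
  set R : Subgroup G := (S : Subgroup G).normalCore with hR
  have hRn : R.Normal := Subgroup.normalCore_normal _
  have hR2 : IsPGroup 2 R := S.isPGroup'.to_le (Subgroup.normalCore_le _)
  have hFR : ∀ y, FF z y → y ∈ R := fun y hy g => (hy.conj g).mem_sylow h k hG S
  have two_odd : ∀ r ∈ R, Odd (orderOf r) → r = 1 := by
    intro r hr ho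
    obtain ⟨j, hj⟩ := hR2 ⟨r, hr⟩
    have hj' : r ^ 2 ^ j = 1 := by simpa using congrArg Subtype.val hj
    have h1 : orderOf r ∣ 2 ^ j := orderOf_dvd_of_pow_eq_one hj'
    have h2 : Nat.Coprime (orderOf r) (2 ^ j) :=
      Nat.Coprime.pow_right _ (Nat.coprime_two_right.2 ho)
    exact orderOf_eq_one_iff.1 (Nat.Coprime.eq_one_of_dvd h2 h1)
  have hdisj : R ⊓ Subgroup.normalizer (M : Set G) = ⊥ := by
    rw [Subgroup.eq_bot_iff_forall]
    rintro r ⟨hrR, hrN⟩
    by_contra hr1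
    rcases hD r hrN with hrM | hrM
    · exact hr1 (two_odd r hrR (h.odd_orderOf hrM))
    · have hro : orderOf r = 2 := by
        have : r = r * z * z := by rw [mul_assoc, h.z_mul, mul_one]
        rw [this]
        exact h.orderOf_mul_z hrM
      obtain ⟨x, hx, hx1⟩ := h.exists_ne
      have hinv := h.inv_of_invol hrN hro x hx
      have hmem : r * (x * r⁻¹ * x⁻¹) ∈ R :=
        R.mul_mem hrR (hRn.conj_mem _ (R.inv_mem hrR) x)
      have e : r * (x * r⁻¹ * x⁻¹) = x⁻¹ * x⁻¹ := by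
        calc r * (x * r⁻¹ * x⁻¹) = (r * x * r⁻¹) * x⁻¹ := by group
          _ = x⁻¹ * x⁻¹ := by rw [hinv]
      rw [e] at hmem
      have h1 := two_odd _ hmem (h.odd_orderOf (M.mul_mem (M.inv_mem hx) (M.inv_mem hx)))
      have h2 := h.sq_eq_one (M.inv_mem hx) h1
      exact hx1 (inv_eq_one.1 h2)
  have hcardN := card_N_of h hD
  -- the product map
  let φ : R × ↥(Subgroup.normalizer (M : Set G)) → G := fun a => (a.1 : G) * (a.2 : G)
  have hφ : Function.Injective φ := by
    rintro ⟨r, n⟩ ⟨r', n'⟩ he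
    have he' : (r : G) * n = r' * n' := he
    have h1 : (r' : G)⁻¹ * r = n' * (n : G)⁻¹ := by
      calc (r' : G)⁻¹ * r = (r' : G)⁻¹ * (r * n) * (n : G)⁻¹ := by group
        _ = n' * (n : G)⁻¹ := by rw [he']; group
    have h2 : (r' : G)⁻¹ * r ∈ R ⊓ Subgroup.normalizer (M : Set G) :=
      ⟨R.mul_mem (R.inv_mem r'.2) r.2, h1 ▸ Subgroup.mul_mem _ n'.2 (Subgroup.inv_mem _ n.2)⟩
    rw [hdisj, Subgroup.mem_bot] at h2
    have h3 : (r : G) = r' := (inv_mul_eq_one.1 h2).symm
    have h4 : (n : G) = n' := by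
      rw [h2] at h1
      exact (mul_inv_eq_one.1 h1.symm).symm
    exact Prod.ext (Subtype.ext h3) (Subtype.ext h4)
  have hle : Nat.card R * (2 * Nat.card M) ≤ 2 * Nat.card M * 2 ^ k := by
    have := Nat.card_le_card_of_injective φ hφ
    rwa [Nat.card_prod, hcardN, hG] at this
  have hMpos : 0 < Nat.card M := Nat.card_pos
  have hRle : Nat.card R ≤ 2 ^ k := by
    have : (2 * Nat.card M) * Nat.card R ≤ (2 * Nat.card M) * 2 ^ k := by
      rw [mul_comm (2 * Nat.card M) (Nat.card R)]; exact hle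
    exact Nat.le_of_mul_le_mul_left this (by positivity)
  -- FF ∪ {1} ⊆ R
  let ψ : {y : G // orderOf y = 2 ∧ ¬ IsConj z y} → {r : R // r ≠ 1} := fun y =>
    ⟨⟨y.1, hFR y.1 y.2⟩, fun h1 => ne_one_of_orderOf_two y.2.1 (congrArg Subtype.val h1)⟩
  have hψ : Function.Injective ψ := by
    intro y y' he
    exact Subtype.ext (congrArg (fun a : {r : R // r ≠ 1} => ((a : R) : G)) he)
  have hcard1 : Nat.card {r : R // r ≠ 1} = Nat.card R - 1 := by
    classical
    haveI : Fintype R := Fintype.ofFinite R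
    rw [Nat.card_eq_fintype_card, Nat.card_eq_fintype_card, Fintype.card_subtype_compl,
      Fintype.card_subtype_eq]
  have hRpos : 0 < Nat.card R := Nat.card_pos
  have hkpos : 0 < 2 ^ k := by positivity
  have hge : 2 ^ k - 1 ≤ Nat.card R - 1 := by
    have := Nat.card_le_card_of_injective ψ hψ
    rwa [hF, hcard1] at this
  have hRcard : Nat.card R = 2 ^ k := by omega
  have hψs : Function.Surjective ψ := by
    have hb : Function.Bijective ψ := by
      rw [Nat.bijective_iff_injective_and_card]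
      exact ⟨hψ, by rw [hF, hcard1, hRcard]⟩
    exact hb.2
  have hsq : ∀ r ∈ R, r * r = 1 := by
    intro r hr
    by_cases hr1 : r = 1
    · rw [hr1, one_mul]
    · obtain ⟨y, hy⟩ := hψs ⟨⟨r, hr⟩, fun h1 => hr1 (congrArg Subtype.val h1)⟩
      have : y.1 = r := congrArg (fun a : {r : R // r ≠ 1} => ((a : R) : G)) hy
      rw [← this]
      exact mul_self_of_orderOf_two y.2.1
  refine ⟨R, hRn, ⟨⟨⟨fun a b => ?_⟩⟩, fun a ha => by rw [sq]; exact hsq a ha⟩, hRcard, hdisj, ?_⟩
  · apply Subtype.ext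
    have ha := hsq a a.2
    have hb := hsq b b.2
    have hab := hsq (a * b : R) (a * b : R).2
    simp only [Subgroup.coe_mul] at hab ⊢
    calc (a : G) * b = a * ((a * b) * (a * b)) * b := by rw [hab, mul_one]
      _ = (a * a) * (b * a) * (b * b) := by group
      _ = b * a := by rw [ha, hb, one_mul, mul_one]
  · have hφs : Function.Surjective φ := by
      have hb : Function.Bijective φ := by
        rw [Nat.bijective_iff_injective_and_card]
        refine ⟨hφ, ?_⟩
        rw [Nat.card_prod, hcardN, hG, hRcard]; ring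
      exact hb.2
    rw [eq_top_iff]
    intro g _
    obtain ⟨⟨r, n⟩, rfl⟩ := hφs g
    exact Subgroup.mul_mem _ (Subgroup.mem_sup_left r.2) (Subgroup.mem_sup_right n.2)

end Cfsg.Agent.Lib.Helper73.Bend
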