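import Mathlib
import Cfsg.Agent.Lib.Helper75.TIC2
import Cfsg.Agent.Lib.Helper73.BendB2b
import Cfsg.Agent.Lib.Helper6.ZasReg
import Cfsg.Agent.Lib.Helper54.Dihedral

/-!
# Bender's counting lemma: `M` cyclic, `N(M)` dihedral (piece B2c)
-/

set_option autoImplicit false
set_option linter.unusedSectionVars false
set_option linter.style.haveILetI false

namespace Cfsg.Agent.Lib.Helper73.Bend

open Cfsg.Agent.Lib.Helper75 Cfsg.Agent.Lib.Helper75.Bend

variable {G : Type*} [Group G] [Finite G] {M : Subgroup G} {z : G}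

/-- B2c, first part -/
theorem isCyclic_of_E (h : TIC M z) (E : Subgroup G) (hE : E.Normal) (hE1 : E ≠ ⊥)
    (hE2 : IsPGroup 2 E) : IsCyclic ↥M := by
  haveI := hE
  refine Cfsg.Agent.Lib.Helper6.ZasReg.isCyclic_of_fpf E M hE1 ?_ h.odd_card ?_
  · intro t ht ht1 n hn hfix
    have hc : n * t = t * n := by
      calc n * t = (t * n * t⁻¹) * t := by rw [hfix]
        _ = t * n := by group
    have ho := h.odd_order ht ht1 hc
    obtain ⟨j, hj⟩ := hE2 ⟨n, hn⟩
    have hj' : n ^ 2 ^ j = 1 := by simpa using congrArg Subtype.val hj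
    have h1 : orderOf n ∣ 2 ^ j := orderOf_dvd_of_pow_eq_one hj'
    have h2 : Nat.Coprime (orderOf n) (2 ^ j) :=
      Nat.Coprime.pow_right _ (Nat.coprime_two_right.2 ho)
    exact orderOf_eq_one_iff.1 (Nat.Coprime.eq_one_of_dvd h2 h1)
  · letI : CommGroup M :=
      { (inferInstance : Group M) with
        mul_comm := fun a b => Subtype.ext (h.comm a a.2 b b.2) }
    exact CommGroup.isNilpotent

/-- B2c, second part -/
theorem dihedral_N (h : TIC M z)
    (hD : ∀ n ∈ Subgroup.normalizer (M : Set G), n ∈ M ∨ n * z ∈ M) (hc : IsCyclic ↥M) :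
    Nonempty (↥(Subgroup.normalizer (M : Set G)) ≃* DihedralGroup (Nat.card M)) := by
  obtain ⟨a, ha⟩ := hc.exists_generator
  have hao : orderOf a = Nat.card M := orderOf_eq_card_of_forall_mem_zpowers ha
  refine Cfsg.Agent.Lib.Helper54.nonempty_mulEquiv_dihedralGroup (Nat.card M)
    (⟨a, le_N a.2⟩ : ↥(Subgroup.normalizer (M : Set G))) ⟨z, h.zN⟩ ?_ ?_ ?_ ?_ (card_N_of h hD)
  · rw [← hao, ← Subgroup.orderOf_coe a, ← Subgroup.orderOf_coe]
  · exact Subtype.ext h.z_mul
  · exact Subtype.ext (h.inv_z a a.2)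
  · rintro ⟨i, hi⟩
    apply h.z_not_mem
    have : ((a : G)) ^ i = z := by
      have := congrArg Subtype.val hi
      simpa using this
    rw [← this]
    exact M.zpow_mem a.2 i

end Cfsg.Agent.Lib.Helper73.Bend
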