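import Mathlib
import Cfsg.Agent.Lib.Helper75.TIC2
import Cfsg.Agent.Lib.Helper41.Dickson.Orbits

/-!
# Bender's counting lemma: many involutions force an involution in every coset (piece S)
-/

set_option autoImplicit false
set_option linter.unusedSectionVars false
set_option linter.style.haveILetI false

namespace Cfsg.Agent.Lib.Helper73.Bend

open Cfsg.Agent.Lib.Helper75 Cfsg.Agent.Lib.Helper75.Bend

variable {G : Type*} [Group G] [Finite G] {M : Subgroup G} {z : G}

/-- elements outside `N(M)` whose coset `M g` has no involution -/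
def Bad (M : Subgroup G) : Set G :=
  {g | g ∉ Subgroup.normalizer (M : Set G) ∧ ∀ m ∈ M, orderOf (m * g) ≠ 2}

theorem bad_smul {g : G} (hg : g ∈ Bad M) {a b : G} (ha : a ∈ M) (hb : b ∈ M) :
    a * g * b⁻¹ ∈ Bad M := by
  refine ⟨fun hN => hg.1 ?_, fun m hm ho => ?_⟩
  · have : g = a⁻¹ * (a * g * b⁻¹) * b := by group
    rw [this]
    exact Subgroup.mul_mem _ (Subgroup.mul_mem _ (Subgroup.inv_mem _ (le_N ha)) hN) (le_N hb)
  · apply hg.2 (b⁻¹ * m * a) (M.mul_mem (M.mul_mem (M.inv_mem hb) hm) ha)
    have : m * (a * g * b⁻¹) = b * (b⁻¹ * m * a * g) * b⁻¹ := by group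
    rw [this] at ho
    rw [← ho]
    exact ((MulAut.conj b).orderOf_eq _).symm

/-- the action of `M × M` on `Bad M` -/
@[instance_reducible]
def actBad (M : Subgroup G) : MulAction (M × M) (Bad M) where
  smul a g := ⟨a.1 * g * (a.2 : G)⁻¹, bad_smul g.2 a.1.2 a.2.2⟩
  one_smul g := Subtype.ext (by
    show ((1 : M × M).1 : G) * g * (((1 : M × M).2 : M) : G)⁻¹ = g
    simp)
  mul_smul a b g := Subtype.ext (by
    show (((a * b).1 : M) : G) * g * (((a * b).2 : M) : G)⁻¹ =
      (a.1 : G) * ((b.1 : G) * g * (b.2 : G)⁻¹) * (a.2 : G)⁻¹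
    simp only [Prod.fst_mul, Prod.snd_mul, Subgroup.coe_mul]
    group)

theorem sq_dvd_card_bad (h : TIC M z) : Nat.card M ^ 2 ∣ Nat.card (Bad M) := by
  letI := actBad M
  have := Cfsg.Agent.Lib.Helper41.Dickson.card_dvd_of_free (K := M × M) (S := Bad M) (by
    rintro ⟨a, b⟩ g hfix
    have hfix' : (a : G) * g * (b : G)⁻¹ = g := congrArg Subtype.val hfix
    have hb : (g : G)⁻¹ * a * ((g : G)⁻¹)⁻¹ = b := by
      calc (g : G)⁻¹ * a * ((g : G)⁻¹)⁻¹ = (g : G)⁻¹ * (a * g * (b : G)⁻¹) * b := by group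
        _ = b := by rw [hfix']; group
    have ha1 : (a : G) = 1 := by
      by_contra ha1
      have := h.ti _ _ a.2 ha1 (hb ▸ b.2)
      exact g.2.1 (by simpa using Subgroup.inv_mem _ this)
    have hb1 : (b : G) = 1 := by
      rw [← hb, ha1]; group
    exact Prod.ext (Subtype.ext ha1) (Subtype.ext hb1))
  rwa [Nat.card_prod, ← sq] at this

/-- S -/
theorem tis_of_count (h : TIC M z) (hcount : M.index < Nat.card {g : G // orderOf g = 2}) :
    TIS M z := by
  classical
  set Iout := {u : G // orderOf u = 2 ∧ u ∉ Subgroup.normalizer (M : Set G)} with hIout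
  -- first injection
  let φ : (Bad M) ⊕ (M × Iout) → G := fun s =>
    match s with
    | Sum.inl g => g
    | Sum.inr a => (a.1 : G) * (a.2 : G)
  have hφ : Function.Injective φ := by
    rintro (g | ⟨m, u⟩) (g' | ⟨m', u'⟩) he
    · exact congrArg Sum.inl (Subtype.ext he)
    · exfalso
      have he' : (g : G) = (m' : G) * (u' : G) := he
      apply g.2.2 (m' : G)⁻¹ (M.inv_mem m'.2)
      rw [he', inv_mul_cancel_left]
      exact u'.2.1
    · exfalso
      have he' : (m : G) * (u : G) = (g' : G) := he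
      apply g'.2.2 (m : G)⁻¹ (M.inv_mem m.2)
      rw [← he', inv_mul_cancel_left]
      exact u.2.1
    · have he' : (m : G) * (u : G) = (m' : G) * (u' : G) := he
      have h1 : (u : G) * (u' : G)⁻¹ = (m : G)⁻¹ * m' := by
        calc (u : G) * (u' : G)⁻¹ = (m : G)⁻¹ * ((m : G) * u) * (u' : G)⁻¹ := by group
          _ = (m : G)⁻¹ * m' := by rw [he']; group
      have hu : (u : G) = u' := h.invol_unique u.2.1 u'.2.1 u.2.2
        (h1 ▸ M.mul_mem (M.inv_mem m.2) m'.2)
      have hm : (m : G) = m' := by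
        rw [hu] at he'
        exact mul_right_cancel he'
      exact congrArg Sum.inr (Prod.ext (Subtype.ext hm) (Subtype.ext hu))
  have h1 : Nat.card (Bad M) + Nat.card M * Nat.card Iout ≤ Nat.card G := by
    have := Nat.card_le_card_of_injective φ hφ
    rwa [Nat.card_sum, Nat.card_prod] at this
  -- second injection
  let ψ : {g : G // orderOf g = 2} → M ⊕ Iout := fun y =>
    if hy : (y : G) ∈ Subgroup.normalizer (M : Set G) then
      Sum.inl ⟨(y : G) * z⁻¹, by
        obtain ⟨m, hm, e⟩ := h.invol_eq hy y.2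
        rw [e, mul_inv_cancel_right]; exact hm⟩
    else Sum.inr ⟨y, y.2, hy⟩
  have hψ : Function.Injective ψ := by
    intro y y' he
    by_cases hy : (y : G) ∈ Subgroup.normalizer (M : Set G) <;>
      by_cases hy' : (y' : G) ∈ Subgroup.normalizer (M : Set G)
    · simp only [ψ, dif_pos hy, dif_pos hy', Sum.inl.injEq, Subtype.mk.injEq] at he
      exact Subtype.ext (mul_right_cancel he)
    · simp only [ψ, dif_pos hy, dif_neg hy'] at he
      exact absurd he (by simp)
    · simp only [ψ, dif_neg hy, dif_pos hy'] at he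
      exact absurd he (by simp)
    · simp only [ψ, dif_neg hy, dif_neg hy', Sum.inr.injEq] at he
      exact Subtype.ext (congrArg (fun a : Iout => (a : G)) he)
  have h2 : Nat.card {g : G // orderOf g = 2} ≤ Nat.card M + Nat.card Iout := by
    have := Nat.card_le_card_of_injective ψ hψ
    rwa [Nat.card_sum] at this
  have h3 : Nat.card M * M.index = Nat.card G := M.card_mul_index
  have hlt : Nat.card (Bad M) < Nat.card M ^ 2 := by
    have hpos : 0 < Nat.card M := Nat.card_pos
    have h4 : M.index + 1 ≤ Nat.card M + Nat.card Iout := by omega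
    have h5 : Nat.card M * (M.index + 1) ≤ Nat.card M * (Nat.card M + Nat.card Iout) :=
      Nat.mul_le_mul_left _ h4
    nlinarith
  have h0 : Nat.card (Bad M) = 0 := Nat.eq_zero_of_dvd_of_lt (sq_dvd_card_bad h) hlt
  have hemp : IsEmpty (Bad M) := by
    rcases Nat.card_eq_zero.1 h0 with he | he
    · exact he
    · exact absurd (inferInstance : Finite (Bad M)) (not_finite_iff_infinite.2 he)
  refine ⟨h, fun g hg => ?_⟩
  by_contra hcon
  push Not at hcon
  exact hemp.false ⟨g, hg, hcon⟩

end Cfsg.Agent.Lib.Helper73.Bend
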