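import Mathlib
import Cfsg.Agent.Lib.Helper15.CoprimeCount
import Cfsg.Agent.Lib.Helper15.Gallagher
import Cfsg.Agent.Lib.Helper15.LinearMul
import Cfsg.Agent.Lib.Helper80.Induced
import Cfsg.Agent.Lib.Helper74.CharBasic
import Cfsg.Agent.S0887

/-!
# Character degrees over a Frobenius-like section (Isaacs 12.4, abelian complement)
-/

set_option autoImplicit false
set_option linter.unusedSectionVars false
set_option linter.style.haveILetI false

namespace Cfsg.Agent.Lib.Helper73.DG

open Cfsg Cfsg.Agent.Lib Cfsg.Agent.Lib.Helper15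

variable {G : Type*} [Group G] [Finite G]

/-- a linear character of `N/K` fixed by an element acting fixed point freely on `N/K` is trivial -/
theorem hom_eq_one_of_fixed (N K : Subgroup G) [hN : N.Normal] [hK : K.Normal]
    (hfpf : ∀ t : G, t ∉ N → ∀ n ∈ N, t * n * t⁻¹ * n⁻¹ ∈ K → n ∈ K)
    {t : G} (ht : t ∉ N) (μ : N →* ℂˣ) (hμK : ∀ n : N, (n : G) ∈ K → μ n = 1)
    (hfix : ∀ n : N, μ ⟨t * n * t⁻¹, hN.conj_mem n n.2 t⟩ = μ n) : μ = 1 := by
  classical
  set K' : Subgroup N := K.subgroupOf N with hK'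
  let c : N → N := fun m =>
    ⟨t * m * t⁻¹ * (m : G)⁻¹, N.mul_mem (hN.conj_mem m m.2 t) (N.inv_mem m.2)⟩
  have key : ∀ m m' : N, (c m)⁻¹ * c m' = m * c (m⁻¹ * m') * m⁻¹ := by
    intro m m'
    apply Subtype.ext
    simp only [c, Subgroup.coe_mul, Subgroup.coe_inv]
    group
  have hcK : ∀ d : N, d ∈ K' → c d ∈ K' := by
    intro d hd
    rw [hK', Subgroup.mem_subgroupOf] at hd ⊢
    exact K.mul_mem (hK.conj_mem _ hd t) (K.inv_mem hd)
  have hK'n : K'.Normal := hK.subgroupOf N
  let cbar : N ⧸ K' → N ⧸ K' := Quotient.map' c (by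
    intro m m' h
    rw [QuotientGroup.leftRel_apply] at h ⊢
    rw [key]
    exact hK'n.conj_mem _ (hcK _ h) m)
  have hinj : Function.Injective cbar := by
    intro a b
    induction a using QuotientGroup.induction_on with
    | H m =>
      induction b using QuotientGroup.induction_on with
      | H m' =>
        intro h
        have h1 : ((c m : N) : N ⧸ K') = ((c m' : N) : N ⧸ K') := h
        rw [QuotientGroup.eq, key] at h1
        have h2 : c (m⁻¹ * m') ∈ K' := by
          have := hK'n.conj_mem _ h1 m⁻¹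
          simpa [mul_assoc] using this
        rw [QuotientGroup.eq, hK', Subgroup.mem_subgroupOf]
        rw [hK', Subgroup.mem_subgroupOf] at h2
        exact hfpf t ht _ (m⁻¹ * m').2 h2
  have hsurj : Function.Surjective cbar := Finite.injective_iff_surjective.1 hinj
  ext n
  obtain ⟨a, ha⟩ := hsurj (n : N ⧸ K')
  induction a using QuotientGroup.induction_on with
  | H m =>
    have h1 : ((c m : N) : N ⧸ K') = (n : N ⧸ K') := ha
    rw [QuotientGroup.eq, hK', Subgroup.mem_subgroupOf] at h1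
    have h2 := hμK _ h1
    rw [map_mul, map_inv] at h2
    have h3 : μ (c m) = 1 := by
      have : c m = ⟨t * m * t⁻¹, hN.conj_mem m m.2 t⟩ * m⁻¹ := rfl
      rw [this, map_mul, hfix, map_inv, mul_inv_cancel]
    rw [h3, inv_one, one_mul] at h2
    rw [h2]; rfl

/-- a nontrivial linear character of the abelian section `N/K` -/
theorem exists_hom_ne_one (N K : Subgroup G) [hN : N.Normal] [hK : K.Normal] (hKN : K < N)
    (hab : ⁅N, N⁆ ≤ K) :
    ∃ μ : N →* ℂˣ, (∀ n : N, (n : G) ∈ K → μ n = 1) ∧ μ ≠ 1 := by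
  classical
  set K' : Subgroup N := K.subgroupOf N with hK'
  haveI hK'n : K'.Normal := hK.subgroupOf N
  letI : CommGroup (N ⧸ K') :=
    { (inferInstance : Group (N ⧸ K')) with
      mul_comm := by
        intro a b
        induction a using QuotientGroup.induction_on with
        | H x =>
          induction b using QuotientGroup.induction_on with
          | H y =>
            rw [← QuotientGroup.mk_mul, ← QuotientGroup.mk_mul, QuotientGroup.eq, hK',
              Subgroup.mem_subgroupOf]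
            apply hab
            have hmem := Subgroup.commutator_mem_commutator (N.inv_mem y.2) (N.inv_mem x.2)
            rw [commutatorElement_def] at hmem
            have : (((x * y)⁻¹ * (y * x) : N) : G) =
                (y : G)⁻¹ * (x : G)⁻¹ * ((y : G)⁻¹)⁻¹ * ((x : G)⁻¹)⁻¹ := by
              simp only [Subgroup.coe_mul, Subgroup.coe_inv]
              group
            rw [this]
            exact hmem }
  obtain ⟨x, hxN, hxK⟩ := SetLike.exists_of_lt hKN
  have hne : ((⟨x, hxN⟩ : N) : N ⧸ K') ≠ 1 := by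
    intro h
    rw [QuotientGroup.eq_one_iff, hK', Subgroup.mem_subgroupOf] at h
    exact hxK h
  obtain ⟨φ, hφ⟩ := CommGroup.exists_apply_ne_one_of_hasEnoughRootsOfUnity (N ⧸ K') ℂ hne
  refine ⟨φ.comp (QuotientGroup.mk' K'), fun n hn => ?_, fun h => hφ ?_⟩
  · have : ((n : N) : N ⧸ K') = 1 := by
      rw [QuotientGroup.eq_one_iff, hK', Subgroup.mem_subgroupOf]; exact hn
    simp [this]
  · have := DFunLike.congr_fun h ⟨x, hxN⟩
    simpa using this

/-- the function of a linear character -/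
def lf {N : Type*} [Group N] (l : N →* ℂˣ) : N → ℂ := fun n => (l n : ℂ)

theorem lf_irr {N : Type*} [Group N] (l : N →* ℂˣ) : IsIrrCharacter N (lf l) :=
  Helper74.isIrrCharacter_of_hom l

theorem lf_one_apply {N : Type*} [Group N] (l : N →* ℂˣ) : lf l 1 = 1 := by simp [lf]

theorem lf_injective {N : Type*} [Group N] {l l' : N →* ℂˣ} (h : lf l = lf l') : l = l' := by
  ext n
  exact congrFun h n

/-- the conjugate of a linear character -/
def cjHom (N : Subgroup G) [hN : N.Normal] (t : G) (l : N →* ℂˣ) : N →* ℂˣ :=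
  l.comp (MulAut.conjNormal t : N ≃* N).toMonoidHom

theorem cj_lf (N : Subgroup G) [hN : N.Normal] (t : G) (l : N →* ℂˣ) :
    cj N t (lf l) = lf (cjHom N t l) := by
  rw [cj_eq_comp]; rfl

theorem cjHom_apply (N : Subgroup G) [hN : N.Normal] (t : G) (l : N →* ℂˣ) (n : N) :
    cjHom N t l n = l ⟨t * n * t⁻¹, hN.conj_mem n n.2 t⟩ := by
  show l (MulAut.conjNormal t n) = _
  congr 1

/-- induction from the inertia group `N` -/
theorem irr_indFun_of_inertia [Fintype G] (N : Subgroup G) [hN : N.Normal] {φ : N → ℂ}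
    (hφ : IsIrrCharacter N φ) (h : ∀ g : G, cj N g φ = φ → g ∈ N) :
    IsIrrCharacter G (indFun N φ) := by
  rw [isIrr_iff]
  refine ⟨char_indFun N (irr_char hφ), ?_⟩
  rw [norm_indFun_normal N hφ]
  have e : Nat.card {g : G // cj N g φ = φ} = Nat.card N :=
    Nat.card_congr (Equiv.subtypeEquivRight
      (fun g => ⟨h g, fun hg => cj_of_mem N hg (irr_cf hφ)⟩))
  rw [e]
  exact inv_mul_cancel₀ (card_ne_zero N)

theorem exists_irr_degree (N K : Subgroup G) [hN : N.Normal] [hK : K.Normal] (hKN : K < N)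
    (hGN : commutator G ≤ N) (hab : ⁅N, N⁆ ≤ K)
    (hfpf : ∀ t : G, t ∉ N → ∀ n ∈ N, t * n * t⁻¹ * n⁻¹ ∈ K → n ∈ K)
    {ψ : N → ℂ} (hψ : IsIrrCharacter N ψ)
    (hψK : IsIrrCharacter (K.subgroupOf N) (fun k : K.subgroupOf N => ψ k)) :
    ∃ χ : IrrCharacter G, charDegree (χ : G → ℂ) = N.index * charDegree ψ := by
  classical
  haveI := Fintype.ofFinite G
  haveI := Fintype.ofFinite N
  haveI : Fintype (K.subgroupOf N) := Fintype.ofFinite _
  haveI hK'n : (K.subgroupOf N).Normal := hK.subgroupOf N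
  by_contra hno
  obtain ⟨l, hlK, hl1⟩ := exists_hom_ne_one N K hKN hab
  set ψ' : N → ℂ := lf l * ψ with hψ'
  have hψ'irr : IsIrrCharacter N ψ' :=
    irr_linear_mul (irr_char (lf_irr l)) (lf_one_apply l) hψ
  have hdeg' : charDegree ψ' = charDegree ψ := by
    unfold charDegree
    rw [hψ', Pi.mul_apply, lf_one_apply, one_mul]
  -- nontrivial inertia
  have hin : ∀ φ : N → ℂ, IsIrrCharacter N φ → charDegree φ = charDegree ψ →
      ∃ g : G, g ∉ N ∧ cj N g φ = φ := by
    intro φ hφ hd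
    by_contra hcon
    push Not at hcon
    apply hno
    refine ⟨⟨indFun N φ, irr_indFun_of_inertia N hφ (fun g hg => ?_)⟩, ?_⟩
    · by_contra hgN
      exact hcon g hgN hg
    · rw [Helper80.charDegree_indFun N (irr_char hφ), hd]
  obtain ⟨a, haN, ha⟩ := hin ψ hψ rfl
  obtain ⟨a', ha'N, ha'⟩ := hin ψ' hψ'irr hdeg'
  -- Gallagher injectivity over `ψ'`
  have hψ'K : IsIrrCharacter (K.subgroupOf N) (fun k : K.subgroupOf N => ψ' k) := by
    have : (fun k : K.subgroupOf N => ψ' k) = fun k : K.subgroupOf N => ψ k := by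
      funext k
      have hk : ((k : N) : G) ∈ K := Subgroup.mem_subgroupOf.1 k.2
      rw [hψ', Pi.mul_apply, lf, hlK _ hk]
      simp
    rw [this]; exact hψK
  have hmemset : ∀ μ : N →* ℂˣ, (∀ n : N, (n : G) ∈ K → μ n = 1) →
      lf μ ∈ {β : N → ℂ | IsIrrCharacter N β ∧
        classInner (fun n : K.subgroupOf N => β n) (fun _ => 1) ≠ 0} := by
    intro μ hμ
    refine ⟨lf_irr μ, ?_⟩
    have : (fun n : K.subgroupOf N => lf μ n) = fun _ => (1 : ℂ) := by
      funext k
      have hk : ((k : N) : G) ∈ K := Subgroup.mem_subgroupOf.1 k.2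
      rw [lf, hμ _ hk]; simp
    rw [this, irr_inner_self irr_one]
    exact one_ne_zero
  have hinj := (gallagher (K.subgroupOf N) hψ'irr hψ'K).injOn
  have hcjK : ∀ (t : G) (μ : N →* ℂˣ), (∀ n : N, (n : G) ∈ K → μ n = 1) →
      ∀ n : N, (n : G) ∈ K → cjHom N t μ n = 1 := by
    intro t μ hμ n hn
    rw [cjHom_apply]
    exact hμ _ (hK.conj_mem _ hn t)
  -- `ν = l^a / l`
  set ν : N →* ℂˣ := cjHom N a l * l⁻¹ with hν
  have hνK : ∀ n : N, (n : G) ∈ K → ν n = 1 := by
    intro n hn
    rw [hν, MonoidHom.mul_apply, MonoidHom.inv_apply, hcjK a l hlK n hn, hlK n hn]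
    simp
  have hcjaψ' : cj N a ψ' = lf ν * ψ' := by
    rw [hψ', cj_mul, ha, cj_lf]
    funext n
    simp only [Pi.mul_apply, lf, hν, MonoidHom.mul_apply, MonoidHom.inv_apply, Units.val_mul]
    rw [← mul_assoc, mul_assoc ((cjHom N a l n : ℂˣ) : ℂ), ← Units.val_mul, inv_mul_cancel,
      Units.val_one, mul_one]
  -- `cj a ψ'` is fixed by `a'`
  have hfix : cj N a' (cj N a ψ') = cj N a ψ' := by
    have hc : a * a' * a⁻¹ * a'⁻¹ ∈ N := hGN (by
      rw [commutator_def]
      exact Subgroup.commutator_mem_commutator (Subgroup.mem_top a) (Subgroup.mem_top a'))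
    have e : a * a' = (a * a' * a⁻¹ * a'⁻¹) * a' * a := by group
    rw [cj_cj, e, ← cj_cj, ← cj_cj, cj_of_mem N hc (irr_cf hψ'irr), ha']
  have hν1 : ν = 1 := by
    apply hom_eq_one_of_fixed N K hfpf ha'N ν hνK
    intro n
    rw [← cjHom_apply]
    have h1 : lf (cjHom N a' ν) * ψ' = lf ν * ψ' := by
      rw [← cj_lf]
      calc cj N a' (lf ν) * ψ' = cj N a' (lf ν) * cj N a' ψ' := by rw [ha']
        _ = cj N a' (lf ν * ψ') := (cj_mul N a' _ _).symm
        _ = lf ν * ψ' := by rw [← hcjaψ', hfix]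
    have h2 := hinj (hmemset _ (hcjK a' ν hνK)) (hmemset _ hνK) h1
    rw [lf_injective h2]
  apply hl1
  apply hom_eq_one_of_fixed N K hfpf haN l hlK
  intro n
  rw [← cjHom_apply]
  have : cjHom N a l = l := by
    rw [hν] at hν1
    exact mul_inv_eq_one.1 hν1
  rw [this]

end Cfsg.Agent.Lib.Helper73.DG
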