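import Mathlib
import Cfsg.Agent.Lib.Helper73.DegGraphC
import Cfsg.Agent.Lib.Helper80.Linear
import Cfsg.Prelude.Def_DegreeGraph

/-!
# The degree graph of a group with a nonabelian solvable quotient has at most two components
-/

set_option autoImplicit false
set_option linter.unusedSectionVars false
set_option linter.style.haveILetI false

namespace Cfsg.Agent.Lib.Helper73.DG

open Cfsg Cfsg.Agent.Lib Cfsg.Agent.Lib.Helper15

variable {G : Type*} [Group G] [Finite G]

theorem deg_of_frob (N K : Subgroup G) [hN : N.Normal] [hK : K.Normal] (hKN : K < N)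
    (hGN : commutator G ≤ N) (hab : ⁅N, N⁆ ≤ K)
    (hfpf : ∀ t : G, t ∉ N → ∀ n ∈ N, t * n * t⁻¹ * n⁻¹ ∈ K → n ∈ K)
    {p : ℕ} (hp : p.Prime) (hidx : ∃ k : ℕ, K.relIndex N = p ^ k) (χ : IrrCharacter G) :
    p ∣ charDegree (χ : G → ℂ) ∨ ∃ χ' : IrrCharacter G,
      N.index ∣ charDegree (χ' : G → ℂ) ∧ charDegree (χ : G → ℂ) ∣ charDegree (χ' : G → ℂ) := by
  classical
  haveI := Fintype.ofFinite G
  haveI := Fintype.ofFinite N
  haveI hK'n : (K.subgroupOf N).Normal := hK.subgroupOf N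
  obtain ⟨ψ, hcon⟩ := Helper80.exists_constituent_restrict χ N
  obtain ⟨h1, h2⟩ := Cfsg.Agent.S0887.result N χ χ.2 ψ ψ.2 hcon (charDegree (χ : G → ℂ))
    (charDegree (ψ : N → ℂ)) (Helper80.char_one_eq_charDegree (irr_char χ.2))
    (Helper80.char_one_eq_charDegree (irr_char ψ.2))
  by_cases hpd : p ∣ charDegree (ψ : N → ℂ)
  · exact Or.inl (hpd.trans h1)
  · right
    obtain ⟨k, hk⟩ := hidx
    have hcop : (charDegree (ψ : N → ℂ)).Coprime (K.subgroupOf N).index := by
      have : (K.subgroupOf N).index = p ^ k := hk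
      rw [this]
      exact Nat.Coprime.pow_right _ ((Nat.Prime.coprime_iff_not_dvd hp).2 hpd).symm
    have hψK := restrict_irr_of_coprime (K.subgroupOf N) ψ.2 hcop
    obtain ⟨χ', hχ'⟩ := exists_irr_degree N K hKN hGN hab hfpf ψ.2 hψK
    refine ⟨χ', by rw [hχ']; exact Dvd.intro _ rfl, ?_⟩
    rw [hχ']
    obtain ⟨e, he⟩ := h1
    have hd0 : 0 < charDegree (ψ : N → ℂ) := by
      rcases Nat.eq_zero_or_pos (charDegree (ψ : N → ℂ)) with h0 | h0
      · exact absurd (h0 ▸ dvd_zero p) hpd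
      · exact h0
    rw [he, Nat.mul_div_cancel_left _ hd0] at h2
    rw [he, mul_comm N.index]
    exact Nat.mul_dvd_mul_left _ h2

theorem charDegree_mul {α β : G → ℂ} (hα : IsCharacter G α) (hβ : IsCharacter G β) :
    charDegree (α * β) = charDegree α * charDegree β := by
  have h1 := Helper80.char_one_eq_charDegree (Helper3.IsCharacter.mul hα hβ)
  rw [Pi.mul_apply, Helper80.char_one_eq_charDegree hα, Helper80.char_one_eq_charDegree hβ] at h1
  exact_mod_cast h1.symm

theorem deg_of_pQuot (K : Subgroup G) [hK : K.Normal] {p : ℕ} (hp : p.Prime)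
    (hidx : ∃ k : ℕ, K.index = p ^ k) (hna : ¬ commutator G ≤ K) (χ : IrrCharacter G) :
    ∃ χ' : IrrCharacter G,
      p ∣ charDegree (χ' : G → ℂ) ∧ charDegree (χ : G → ℂ) ∣ charDegree (χ' : G → ℂ) := by
  classical
  haveI := Fintype.ofFinite G
  haveI := Fintype.ofFinite K
  by_cases hpd : p ∣ charDegree (χ : G → ℂ)
  · exact ⟨χ, hpd, dvd_rfl⟩
  obtain ⟨k, hk⟩ := hidx
  have hcop : (charDegree (χ : G → ℂ)).Coprime K.index := by
    rw [hk]
    exact Nat.Coprime.pow_right _ ((Nat.Prime.coprime_iff_not_dvd hp).2 hpd).symm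
  have hχK := restrict_irr_of_coprime K χ.2 hcop
  -- a nonlinear character of `G ⧸ K`
  have hnc : ¬ ∀ a b : G ⧸ K, a * b = b * a := by
    intro hc
    apply hna
    rw [commutator_eq_closure, Subgroup.closure_le]
    rintro _ ⟨a, b, rfl⟩
    rw [SetLike.mem_coe, ← QuotientGroup.eq_one_iff, commutatorElement_def]
    simp only [QuotientGroup.mk_mul, QuotientGroup.mk_inv]
    rw [hc (a : G ⧸ K) b]
    group
  rw [Helper80.comm_iff_all_linear] at hnc
  push Not at hnc
  obtain ⟨β', hβ'⟩ := hnc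
  set β : IrrCharacter G := (Helper80.inflateEquiv K β').1 with hβ
  have hβK : ∀ n ∈ K, (β : G → ℂ) n = (β : G → ℂ) 1 := (Helper80.inflateEquiv K β').2
  have hβ1 : (β : G → ℂ) 1 ≠ 1 := by
    rw [hβ, Helper80.inflateEquiv_apply]
    exact hβ'
  have hinner : classInner (fun n : K => (β : G → ℂ) n) (fun _ => 1) ≠ 0 := by
    have : (fun n : K => (β : G → ℂ) n) = ((β : G → ℂ) 1) • (fun _ : K => (1 : ℂ)) := by
      funext n
      simp [hβK n n.2]
    rw [this, classInner_smul_left, irr_inner_self irr_one, mul_one]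
    exact irr_one_ne_zero β.2
  obtain ⟨-, h2⟩ := Cfsg.Agent.S0887.result K β β.2 (fun _ => 1) irr_one hinner
    (charDegree (β : G → ℂ)) 1 (Helper80.char_one_eq_charDegree (irr_char β.2)) (by simp)
  rw [Nat.div_one, hk] at h2
  have hpβ : p ∣ charDegree (β : G → ℂ) := by
    obtain ⟨j, -, hj⟩ := (Nat.dvd_prime_pow hp).1 h2
    rcases Nat.eq_zero_or_pos j with rfl | hj0
    · exfalso
      apply hβ1
      rw [Helper80.char_one_eq_charDegree (irr_char β.2), hj]
      simp
    · rw [hj]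
      exact dvd_pow_self p hj0.ne'
  have hmem := (gallagher K χ.2 hχK).mapsTo (⟨β.2, hinner⟩ :
    (β : G → ℂ) ∈ {β : G → ℂ | IsIrrCharacter G β ∧
      classInner (fun n : K => β n) (fun _ => 1) ≠ 0})
  refine ⟨⟨(β : G → ℂ) * (χ : G → ℂ), hmem.1⟩, ?_, ?_⟩
  · show p ∣ charDegree ((β : G → ℂ) * (χ : G → ℂ))
    rw [charDegree_mul (irr_char β.2) (irr_char χ.2)]
    exact hpβ.mul_right _
  · show _ ∣ charDegree ((β : G → ℂ) * (χ : G → ℂ))
    rw [charDegree_mul (irr_char β.2) (irr_char χ.2)]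
    exact Dvd.intro_left _ rfl

theorem card_cc_le_two {V : Type*} (Γ : SimpleGraph V) (P Q : V → Prop) (hPQ : ∀ v, P v ∨ Q v)
    (hP : ∀ v w, P v → P w → Γ.Reachable v w) (hQ : ∀ v w, Q v → Q w → Γ.Reachable v w) :
    Nat.card Γ.ConnectedComponent ≤ 2 := by
  classical
  let f : Γ.ConnectedComponent → Bool :=
    fun c => decide (∃ v, Γ.connectedComponentMk v = c ∧ P v)
  have hf : Function.Injective f := by
    intro c d h
    induction c using SimpleGraph.ConnectedComponent.ind with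
    | _ v =>
      induction d using SimpleGraph.ConnectedComponent.ind with
      | _ w =>
        have h' : (∃ v', Γ.connectedComponentMk v' = Γ.connectedComponentMk v ∧ P v') ↔
            (∃ w', Γ.connectedComponentMk w' = Γ.connectedComponentMk w ∧ P w') := by
          simpa [f] using h
        by_cases h1 : ∃ v', Γ.connectedComponentMk v' = Γ.connectedComponentMk v ∧ P v'
        · obtain ⟨w', hw', hPw'⟩ := h'.1 h1
          obtain ⟨v', hv', hPv'⟩ := h1
          rw [← hv', ← hw']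
          exact SimpleGraph.ConnectedComponent.eq.2 (hP _ _ hPv' hPw')
        · have h2 := fun hh => h1 (h'.2 hh)
          have hQv : Q v := (hPQ v).resolve_left (fun hp => h1 ⟨v, rfl, hp⟩)
          have hQw : Q w := (hPQ w).resolve_left (fun hp => h2 ⟨w, rfl, hp⟩)
          exact SimpleGraph.ConnectedComponent.eq.2 (hQ _ _ hQv hQw)
  calc Nat.card Γ.ConnectedComponent ≤ Nat.card Bool := Nat.card_le_card_of_injective f hf
    _ = 2 := by simp

/-- `s` equals `r` or is adjacent to it -/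
def Near (G : Type*) [Group G] (s r : ℕ) : Prop := s = r ∨ (degreeGraph G).Adj s r

theorem near_of_dvd {s r : ℕ} (hs : s.Prime) (hr : r.Prime) (χ : IrrCharacter G)
    (h1 : s ∣ charDegree (χ : G → ℂ)) (h2 : r ∣ charDegree (χ : G → ℂ)) : Near G s r := by
  by_cases h : s = r
  · exact Or.inl h
  · exact Or.inr ⟨h, hs, hr, _, ⟨χ, rfl⟩,
      Nat.Coprime.mul_dvd_of_dvd_of_dvd ((Nat.coprime_primes hs hr).2 h) h1 h2⟩

theorem near_reach {r : ℕ} (v w : degreePrimes G) (hv : Near G v.1 r) (hw : Near G w.1 r) :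
    ((degreeGraph G).induce (degreePrimes G)).Reachable v w := by
  have hr : r ∈ degreePrimes G := by
    rcases hv with h | h
    · exact h ▸ v.2
    · obtain ⟨-, -, hr, d, hd, hdvd⟩ := h
      exact ⟨hr, d, hd, (Dvd.intro_left _ rfl).trans hdvd⟩
  have key : ∀ u : degreePrimes G, Near G u.1 r →
      ((degreeGraph G).induce (degreePrimes G)).Reachable u ⟨r, hr⟩ := by
    intro u hu
    rcases hu with h | h
    · have : u = ⟨r, hr⟩ := Subtype.ext h
      rw [this]
    · exact SimpleGraph.Adj.reachable (show (degreeGraph G).Adj u.1 r from h)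
  exact (key v hv).trans (key w hw).symm

/-- the statement of the group theoretic piece -/
def SecStmt (G : Type*) [Group G] : Prop :=
    ∃ (p : ℕ) (K : Subgroup G), p.Prime ∧ K.Normal ∧
      (((∃ k : ℕ, K.index = p ^ k) ∧ ¬ commutator G ≤ K) ∨
       ∃ N : Subgroup G, N.Normal ∧ K < N ∧ N ≠ ⊤ ∧ commutator G ≤ N ∧ ⁅N, N⁆ ≤ K ∧
         (∃ k : ℕ, K.relIndex N = p ^ k) ∧
         ∀ t : G, t ∉ N → ∀ n ∈ N, t * n * t⁻¹ * n⁻¹ ∈ K → n ∈ K)

theorem card_cc_of_sec (h : SecStmt G) :
    Nat.card ((degreeGraph G).induce (degreePrimes G)).ConnectedComponent ≤ 2 := by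
  obtain ⟨p, K, hp, hK, h | ⟨N, hN, hKN, hNtop, hGN, hab, hidx, hfpf⟩⟩ := h
  · obtain ⟨hidx, hna⟩ := h
    refine card_cc_le_two _ (fun v => Near G v.1 p) (fun v => Near G v.1 p) ?_
      (fun v w => near_reach v w) (fun v w => near_reach v w)
    rintro ⟨s, hs, d, ⟨χ, rfl⟩, hsd⟩
    obtain ⟨χ', h1, h2⟩ := deg_of_pQuot K hp hidx hna χ
    exact Or.inl (near_of_dvd hs hp χ' (hsd.trans h2) h1)
  · have hidx1 : N.index ≠ 1 := fun h1 => hNtop (Subgroup.index_eq_one.1 h1)
    obtain ⟨r, hr, hrd⟩ := Nat.exists_prime_and_dvd hidx1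
    refine card_cc_le_two _ (fun v => Near G v.1 p) (fun v => Near G v.1 r) ?_
      (fun v w => near_reach v w) (fun v w => near_reach v w)
    rintro ⟨s, hs, d, ⟨χ, rfl⟩, hsd⟩
    rcases deg_of_frob N K hKN hGN hab hfpf hp hidx χ with h1 | ⟨χ', h1, h2⟩
    · exact Or.inl (near_of_dvd hs hp χ hsd h1)
    · exact Or.inr (near_of_dvd hs hr χ' (hsd.trans h2) (hrd.trans h1))

theorem card_cc_of_comm (h : commutator G = ⊥) :
    Nat.card ((degreeGraph G).induce (degreePrimes G)).ConnectedComponent ≤ 2 := by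
  have hc : ∀ a b : G, a * b = b * a := by
    intro a b
    have := Subgroup.commutator_mem_commutator (Subgroup.mem_top a) (Subgroup.mem_top b)
    rw [← commutator_def, h, Subgroup.mem_bot, commutatorElement_eq_one_iff_mul_comm] at this
    exact this
  refine card_cc_le_two _ (fun _ => True) (fun _ => True) (fun _ => Or.inl trivial) ?_ ?_ <;>
  · rintro ⟨s, hs, d, ⟨χ, rfl⟩, hsd⟩
    exfalso
    have h1 := Helper80.char_one_eq_one_of_comm hc χ
    rw [Helper80.char_one_eq_charDegree (irr_char χ.2)] at h1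
    have h2 : charDegree (χ : G → ℂ) = 1 := by exact_mod_cast h1
    rw [h2] at hsd
    exact hs.one_lt.ne' (Nat.dvd_one.1 hsd)

end Cfsg.Agent.Lib.Helper73.DG
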