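import Cfsg.Agent.Lib.Helper73.MaxClass
import Cfsg.Agent.Lib.Helper73.CycNormal

set_option autoImplicit false

/-! More on 2-groups of maximal class: structure, commutator index. -/

namespace Cfsg.Agent.Lib.Helper73

universe u

open scoped commutatorElement

/-- In a non-abelian finite `p`-group the commutator subgroup has index divisible by `p^2`. -/
theorem sq_dvd_index_commutator {G : Type u} [Group G] [Finite G] {p : ℕ} [hp : Fact p.Prime]
    (hG : IsPGroup p G) (hna : ∃ x y : G, x * y ≠ y * x) : p ^ 2 ∣ (commutator G).index := by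
  obtain ⟨k, hk⟩ := (hG.to_quotient (commutator G)).exists_card_eq
  rw [← Subgroup.index_eq_card] at hk
  rw [hk]
  apply pow_dvd_pow
  by_contra hcon
  obtain ⟨x, y, hxy⟩ := hna
  apply hxy
  apply comm_of_isCyclic_quotient_commutator (p := p) _ G rfl hG
  rw [Subgroup.index_eq_card] at hk
  have : k = 0 ∨ k = 1 := by omega
  rcases this with rfl | rfl
  · rw [pow_zero] at hk
    have : Subsingleton (G ⧸ commutator G) := (Nat.card_eq_one_iff_unique.mp hk).1
    infer_instance
  · rw [pow_one] at hk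
    exact isCyclic_of_prime_card hk

/-- dihedral, quaternion and semidihedral type groups have commutator subgroup of index 4 -/
theorem index_commutator_of_type {G : Type u} [Group G] [Finite G] (a b : G) (k M : ℕ)
    (hM : M = 2 ^ k) (ha : orderOf a = 4 * M) (hidx : (Subgroup.zpowers a).index = 2)
    (h : (b * a * b⁻¹ = a⁻¹) ∨ (2 ≤ M ∧ b * a * b⁻¹ = a ^ (2 * M - 1))) :
    (commutator G).index = 4 := by
  have : Fact (Nat.Prime 2) := ⟨Nat.prime_two⟩
  have hMpos : 0 < M := by rw [hM]; positivity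
  have hcard : Nat.card G = 8 * M := by
    have := (Subgroup.zpowers a).card_mul_index
    rw [hidx, Nat.card_zpowers, ha] at this
    omega
  have hG : IsPGroup 2 G := IsPGroup.of_card (n := k + 3) (by rw [hcard, hM]; ring)
  have ha4 : a ^ (4 * M) = 1 := by rw [← ha]; exact pow_orderOf_eq_one a
  have hpow_ne : ∀ j, 0 < j → j < 4 * M → a ^ j ≠ 1 := by
    intro j hj0 hj h1
    have := orderOf_dvd_of_pow_eq_one h1
    rw [ha] at this
    have := Nat.le_of_dvd hj0 this
    omega
  have hcm : ⁅b, a⁆ ∈ commutator G := by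
    rw [commutator_def]
    exact Subgroup.commutator_mem_commutator (Subgroup.mem_top b) (Subgroup.mem_top a)
  rw [commutatorElement_def] at hcm
  have ha2 : a ^ 2 ∈ commutator G := by
    rcases h with hba | ⟨hM2, hba⟩
    · rw [hba] at hcm
      have : a ^ 2 = (a⁻¹ * a⁻¹)⁻¹ := by rw [sq, mul_inv_rev, inv_inv]
      rw [this]; exact inv_mem hcm
    · rw [hba] at hcm
      obtain ⟨c, hc⟩ : ∃ c, c = a ^ (2 * M) := ⟨_, rfl⟩
      have e1 : a ^ (2 * M - 1) * a⁻¹ = c * (a ^ 2)⁻¹ := by
        rw [hc, show 2 * M = (2 * M - 1) + 1 by omega, pow_succ, sq]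
        have : 2 * M - 1 + 1 - 1 = 2 * M - 1 := by omega
        rw [this]; group
      rw [e1] at hcm
      have hMeven : ∃ M', M = 2 * M' := by
        rcases k with _ | k
        · rw [hM] at hM2; omega
        · exact ⟨2 ^ k, by rw [hM]; ring⟩
      obtain ⟨M', hM'⟩ := hMeven
      have hcc : Commute c (a ^ 2)⁻¹ := by
        rw [hc]; exact ((Commute.refl a).pow_pow _ _).inv_right
      have hc2 : c ^ 2 = 1 := by rw [hc, ← pow_mul, ← ha4]; congr 1; ring
      have e2 : (c * (a ^ 2)⁻¹) ^ M = c := by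
        rw [hcc.mul_pow, inv_pow, ← pow_mul, ← hc]
        nth_rewrite 1 [hM']
        rw [pow_mul, hc2, one_pow, one_mul, inv_eq_iff_mul_eq_one, ← sq, hc2]
      have hcG : c ∈ commutator G := by rw [← e2]; exact pow_mem hcm M
      have : a ^ 2 = (c⁻¹ * (c * (a ^ 2)⁻¹))⁻¹ := by group
      rw [this]
      exact inv_mem (mul_mem (inv_mem hcG) hcm)
  have hle : Subgroup.zpowers (a ^ 2) ≤ commutator G := Subgroup.zpowers_le.mpr ha2
  have hK : (Subgroup.zpowers (a ^ 2)).index = 4 := by
    have h1 := (Subgroup.zpowers (a ^ 2)).card_mul_index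
    rw [Nat.card_zpowers, orderOf_pow_of_dvd (by norm_num) (by rw [ha]; exact ⟨2 * M, by ring⟩), ha,
      hcard, show 4 * M / 2 = 2 * M by omega] at h1
    have : 2 * M * (Subgroup.zpowers (a ^ 2)).index = 2 * M * 4 := by rw [h1]; ring
    exact Nat.eq_of_mul_eq_mul_left (by omega) this
  have h1 : (commutator G).index ∣ 4 := by rw [← hK]; exact Subgroup.index_dvd_of_le hle
  have hna : ∃ x y : G, x * y ≠ y * x := by
    refine ⟨b, a, fun hab => ?_⟩
    have h2 : b * a * b⁻¹ = a := by rw [hab, mul_inv_cancel_right]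
    rcases h with hba | ⟨hM2, hba⟩
    · rw [h2] at hba
      apply hpow_ne 2 (by norm_num) (by omega)
      rw [sq]
      nth_rewrite 1 [hba]
      exact inv_mul_cancel a
    · rw [h2] at hba
      apply hpow_ne (2 * M - 2) (by omega) (by omega)
      have e : 2 * M - 1 = (2 * M - 2) + 1 := by omega
      rw [e, pow_succ] at hba
      exact (mul_eq_right.mp hba.symm)
  have h2 := sq_dvd_index_commutator hG hna
  exact Nat.dvd_antisymm h1 (by simpa using h2)

/-- an element commuting with `a` and `b` is central when `⟨a⟩` has index two and `b ∉ ⟨a⟩` -/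
theorem mem_center_of_comm_of_index_two {G : Type*} [Group G] (a b c : G)
    (hidx : (Subgroup.zpowers a).index = 2) (hb : b ∉ Subgroup.zpowers a)
    (hca : a * c = c * a) (hcb : b * c = c * b) : c ∈ Subgroup.center G := by
  have htop : Subgroup.centralizer ({c} : Set G) = ⊤ := by
    apply eq_top_of_index_two hidx _ (b := b) _ hb
    · rw [Subgroup.zpowers_le, Subgroup.mem_centralizer_singleton_iff]
      exact hca
    · rw [Subgroup.mem_centralizer_singleton_iff]
      exact hcb
  rw [Subgroup.mem_center_iff]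
  intro g
  have hg : g ∈ Subgroup.centralizer ({c} : Set G) := by rw [htop]; trivial
  exact Subgroup.mem_centralizer_singleton_iff.mp hg

/-- Structure of a 2-group whose commutator subgroup has index 4. -/
theorem max_class_structure {G : Type u} [Group G] [Finite G] (hG : IsPGroup 2 G)
    (hidx : (commutator G).index = 4) (h4 : Nat.card G ≠ 4) :
    ∃ (a b : G) (k M : ℕ), M = 2 ^ k ∧ orderOf a = 4 * M ∧ (Subgroup.zpowers a).index = 2 ∧
      b ∉ Subgroup.zpowers a ∧
      ((b ^ 2 = 1 ∧ b * a * b⁻¹ = a⁻¹) ∨ (b ^ 2 = a ^ (2 * M) ∧ b * a * b⁻¹ = a⁻¹) ∨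
        (2 ≤ M ∧ b ^ 2 = 1 ∧ b * a * b⁻¹ = a ^ (2 * M - 1))) := by
  have : Fact (Nat.Prime 2) := ⟨Nat.prime_two⟩
  have hZ2 := card_center_eq_two hG hidx h4
  obtain ⟨a, ha⟩ := exists_cyclic_index_two _ G rfl hG hidx
  obtain ⟨n, hn⟩ := IsPGroup.iff_card.mp hG
  have hcS := (commutator G).card_mul_index
  rw [hidx, hn] at hcS
  have hna : ∃ x y : G, x * y ≠ y * x := by
    by_contra hcon
    push Not at hcon
    have := commutator_eq_bot_of_comm hcon
    rw [this, Subgroup.index_bot] at hidx
    exact h4 hidx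
  have hn3 : 3 ≤ n := by
    by_contra hcon
    have hlt : n < 3 := by omega
    interval_cases n
    · omega
    · omega
    · exact h4 (by simpa using hn)
  obtain ⟨k, rfl⟩ : ∃ k, n = k + 3 := ⟨n - 3, by omega⟩
  obtain ⟨M, hM⟩ : ∃ M, M = 2 ^ k := ⟨_, rfl⟩
  have hMpos : 0 < M := by rw [hM]; positivity
  have hoa : orderOf a = 4 * M := by
    have := (Subgroup.zpowers a).card_mul_index
    rw [ha, Nat.card_zpowers, hn] at this
    have e : 2 ^ (k + 3) = 4 * 2 ^ k * 2 := by ring
    rw [hM]; omega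
  have ha4 : a ^ (4 * M) = 1 := by rw [← hoa]; exact pow_orderOf_eq_one a
  obtain ⟨b, hb, h⟩ := cyc2_classify a k M hM hoa ha hna
  refine ⟨a, b, k, M, hM, hoa, ha, hb, ?_⟩
  rcases h with h | h | ⟨hM2, hb2, hba⟩ | h
  · exact Or.inl h
  · exact Or.inr (Or.inl h)
  · exfalso
    have h1 : b * a ^ 2 * b⁻¹ = a ^ 2 := by
      rw [← conj_pow, hba, ← pow_mul]
      have e : (1 + 2 * M) * 2 = 2 + 4 * M := by ring
      rw [e, pow_add, ha4, mul_one]
    have h2' : b * a ^ 2 = a ^ 2 * b := by
      calc b * a ^ 2 = b * a ^ 2 * b⁻¹ * b := by group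
        _ = a ^ 2 * b := by rw [h1]
    have h3 : a ^ 2 ∈ Subgroup.center G :=
      mem_center_of_comm_of_index_two a b (a ^ 2) ha hb (by rw [← pow_succ, ← pow_succ']) h2'
    have h5 : orderOf (⟨a ^ 2, h3⟩ : Subgroup.center G) ∣ Nat.card (Subgroup.center G) :=
      orderOf_dvd_natCard _
    rw [← Subgroup.orderOf_coe, hZ2] at h5
    simp only at h5
    rw [orderOf_pow_of_dvd (by norm_num) (by rw [hoa]; exact ⟨2 * M, by ring⟩), hoa,
      show 4 * M / 2 = 2 * M by omega] at h5
    have := Nat.le_of_dvd (by norm_num) h5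
    omega
  · exact Or.inr (Or.inr h)

end Cfsg.Agent.Lib.Helper73
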