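import Cfsg.Agent.Lib.Helper73.OTGeneric

set_option autoImplicit false
set_option maxRecDepth 100000

/-! Small solvable building blocks (semidirect products) and their tables of solutions of `x ^ n = 1`. -/

namespace Cfsg.Agent.Lib.Helper73.OT

/-- An action of a group on an additive commutative group by automorphisms (unbundled data). -/
structure Act (T V : Type) [Group T] [AddCommGroup V] where
  toFun : T → V → V
  one' : ∀ v, toFun 1 v = v
  mul' : ∀ s t v, toFun (s * t) v = toFun s (toFun t v)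
  add' : ∀ t v w, toFun t (v + w) = toFun t v + toFun t w

/-- The semidirect product `V ⋊ T`. -/
structure SD {T V : Type} [Group T] [AddCommGroup V] (a : Act T V) where
  v : V
  t : T

namespace SD

variable {T V : Type} [Group T] [AddCommGroup V] (a : Act T V)

theorem ext' {x y : SD a} (h1 : x.v = y.v) (h2 : x.t = y.t) : x = y := by
  cases x; cases y; simp_all

/-- underlying product -/
def equivProd : SD a ≃ V × T where
  toFun x := (x.v, x.t)
  invFun p := ⟨p.1, p.2⟩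
  left_inv := fun ⟨_, _⟩ => rfl
  right_inv := fun _ => rfl

instance instDecEq [DecidableEq T] [DecidableEq V] : DecidableEq (SD a) :=
  (equivProd a).decidableEq

instance instFintype [Fintype T] [Fintype V] : Fintype (SD a) :=
  Fintype.ofEquiv _ (equivProd a).symm

instance instMul : Mul (SD a) := ⟨fun x y => ⟨x.v + a.toFun x.t y.v, x.t * y.t⟩⟩
instance instOne : One (SD a) := ⟨⟨0, 1⟩⟩
instance instInv : Inv (SD a) := ⟨fun x => ⟨-(a.toFun x.t⁻¹ x.v), x.t⁻¹⟩⟩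

theorem mul_v (x y : SD a) : (x * y).v = x.v + a.toFun x.t y.v := rfl
theorem mul_t (x y : SD a) : (x * y).t = x.t * y.t := rfl
theorem one_v : (1 : SD a).v = 0 := rfl
theorem one_t : (1 : SD a).t = 1 := rfl

instance instGroup : Group (SD a) :=
  Group.ofLeftAxioms
    (fun x y z => ext' a (by simp only [mul_v, mul_t, a.mul', a.add', add_assoc]) (mul_assoc _ _ _))
    (fun x => ext' a (by simp only [mul_v, one_v, one_t, a.one', zero_add]) (one_mul _))
    (fun x => ext' a (by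
      show -(a.toFun x.t⁻¹ x.v) + a.toFun x.t⁻¹ x.v = 0
      exact neg_add_cancel _) (inv_mul_cancel _))

/-- projection to the acting group -/
def snd : SD a →* T where
  toFun x := x.t
  map_one' := rfl
  map_mul' _ _ := rfl

/-- inclusion of the normal subgroup -/
def inl : Multiplicative V →* SD a where
  toFun v := ⟨Multiplicative.toAdd v, 1⟩
  map_one' := rfl
  map_mul' x y := ext' a (by
    show Multiplicative.toAdd (x * y) = Multiplicative.toAdd x + a.toFun 1 (Multiplicative.toAdd y)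
    rw [a.one']; rfl) (one_mul 1).symm

instance instSolvable [Group.IsSolvable T] : Group.IsSolvable (SD a) :=
  Group.isSolvable_of_ker_le_range (inl a) (snd a) (by
    intro x hx
    refine ⟨Multiplicative.ofAdd x.v, ?_⟩
    exact ext' a rfl (show (1 : T) = x.t from hx.symm))

end SD

/-- cyclic group of order `n` -/
abbrev Z (n : ℕ) := Multiplicative (ZMod n)

/-- position of a divisor of 84 -/
def idx (d : ℕ) : ℕ := [1, 2, 3, 4, 6, 7, 12, 14, 21, 28, 42, 84].idxOf d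
/-- table lookup -/
def lk (l : List ℕ) (d : ℕ) : ℕ := l.getD (idx d) 0

theorem sum_Z2 (F : Z 2 → ℕ) :
    ∑ q : Z 2, F q = F (Multiplicative.ofAdd 0) + F (Multiplicative.ofAdd 1) :=
  Fin.sum_univ_two F

def actS3 : Act (Z 2) (ZMod 3) where
  toFun i v := (2 : ZMod 3) ^ (Multiplicative.toAdd i).val * v
  one' := by decide
  mul' := by decide
  add' := by decide

def actD8 : Act (Z 2) (ZMod 4) where
  toFun i v := (3 : ZMod 4) ^ (Multiplicative.toAdd i).val * v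
  one' := by decide
  mul' := by decide
  add' := by decide

def actD14 : Act (Z 2) (ZMod 7) where
  toFun i v := (6 : ZMod 7) ^ (Multiplicative.toAdd i).val * v
  one' := by decide
  mul' := by decide
  add' := by decide

def actF21 : Act (Z 3) (ZMod 7) where
  toFun i v := (2 : ZMod 7) ^ (Multiplicative.toAdd i).val * v
  one' := by decide
  mul' := by decide
  add' := by decide

def actF42 : Act (Z 6) (ZMod 7) where
  toFun i v := (3 : ZMod 7) ^ (Multiplicative.toAdd i).val * v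
  one' := by decide
  mul' := by decide
  add' := by decide

abbrev S3 := SD actS3
abbrev D8 := SD actD8
abbrev D14 := SD actD14
abbrev F21 := SD actF21
abbrev F42 := SD actF42


theorem gcnt_table {X Q : Type} [Group X] [Fintype X] [DecidableEq X] [Group Q] [DecidableEq Q]
    (f : X →* Q) (q : Q) (l : List ℕ) (hexp : ∀ x : X, x ^ 84 = 1)
    (htab : ∀ d ∈ Nat.divisors 84,
      (Finset.univ.filter (fun x : X => f x = q ∧ x ^ d = 1)).card = lk l d) (n : ℕ) :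
    gcnt f n q = lk l (Nat.gcd n 84) := by
  rw [gcnt_gcd f 84 hexp, gcnt_eq_card_filter]
  exact htab _ (Nat.mem_divisors.mpr ⟨Nat.gcd_dvd_right _ _, by norm_num⟩)

theorem cnt_table {X : Type} [Group X] [Fintype X] [DecidableEq X]
    (l : List ℕ) (hexp : ∀ x : X, x ^ 84 = 1)
    (htab : ∀ d ∈ Nat.divisors 84,
      (Finset.univ.filter (fun x : X => x ^ d = 1)).card = lk l d) (n : ℕ) :
    cnt X n = lk l (Nat.gcd n 84) := by
  rw [cnt_gcd 84 hexp, cnt_eq_card_filter]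
  exact htab _ (Nat.mem_divisors.mpr ⟨Nat.gcd_dvd_right _ _, by norm_num⟩)

/-! gradings to `Z 2` -/

def grC4 : Z 4 →* Z 2 :=
  MonoidHom.mk' (fun i => Multiplicative.ofAdd (((Multiplicative.toAdd i).val : ℕ) : ZMod 2)) (by decide)
def grS3 : S3 →* Z 2 := SD.snd actS3
def grD14 : D14 →* Z 2 := SD.snd actD14
def grD8a : D8 →* Z 2 := SD.snd actD8
def grD8b : D8 →* Z 2 :=
  MonoidHom.mk' (fun x => Multiplicative.ofAdd ((x.v.val : ZMod 2) + Multiplicative.toAdd x.t)) (by decide)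
def grF42 : F42 →* Z 2 :=
  MonoidHom.mk' (fun x => Multiplicative.ofAdd (((Multiplicative.toAdd x.t).val : ℕ) : ZMod 2)) (by decide)

theorem exp_Z2 : ∀ x : Z 2, x ^ 84 = 1 := by decide
theorem exp_Z3 : ∀ x : Z 3, x ^ 84 = 1 := by decide
theorem exp_Z4 : ∀ x : Z 4, x ^ 84 = 1 := by decide
theorem exp_Z7 : ∀ x : Z 7, x ^ 84 = 1 := by decide
theorem exp_S3 : ∀ x : S3, x ^ 84 = 1 := by decide
theorem exp_D8 : ∀ x : D8, x ^ 84 = 1 := by decide
theorem exp_D14 : ∀ x : D14, x ^ 84 = 1 := by decide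
theorem exp_F21 : ∀ x : F21, x ^ 84 = 1 := by decide
theorem exp_F42 : ∀ x : F42, x ^ 84 = 1 := by decide

theorem cnt_Z2 (n : ℕ) : cnt (Z 2) n = lk [1, 2, 1, 2, 2, 1, 2, 2, 1, 2, 2, 2] (Nat.gcd n 84) :=
  cnt_table _ exp_Z2 (by decide) n
theorem cnt_Z3 (n : ℕ) : cnt (Z 3) n = lk [1, 1, 3, 1, 3, 1, 3, 1, 3, 1, 3, 3] (Nat.gcd n 84) :=
  cnt_table _ exp_Z3 (by decide) n
theorem cnt_Z4 (n : ℕ) : cnt (Z 4) n = lk [1, 2, 1, 4, 2, 1, 4, 2, 1, 4, 2, 4] (Nat.gcd n 84) :=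
  cnt_table _ exp_Z4 (by decide) n
theorem cnt_Z7 (n : ℕ) : cnt (Z 7) n = lk [1, 1, 1, 1, 1, 7, 1, 7, 7, 7, 7, 7] (Nat.gcd n 84) :=
  cnt_table _ exp_Z7 (by decide) n
theorem cnt_D8 (n : ℕ) : cnt D8 n = lk [1, 6, 1, 8, 6, 1, 8, 6, 1, 8, 6, 8] (Nat.gcd n 84) :=
  cnt_table _ exp_D8 (by decide) n
theorem cnt_F21 (n : ℕ) : cnt F21 n = lk [1, 1, 15, 1, 15, 7, 15, 7, 21, 7, 21, 21] (Nat.gcd n 84) :=
  cnt_table _ exp_F21 (by decide) n
theorem cnt_F42 (n : ℕ) : cnt F42 n = lk [1, 8, 15, 8, 36, 7, 36, 14, 21, 14, 42, 42] (Nat.gcd n 84) :=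
  cnt_table _ exp_F42 (by decide) n

theorem g0_C4 (n : ℕ) : gcnt grC4 n (Multiplicative.ofAdd 0) =
    lk [1, 2, 1, 2, 2, 1, 2, 2, 1, 2, 2, 2] (Nat.gcd n 84) := gcnt_table _ _ _ exp_Z4 (by decide) n
theorem g1_C4 (n : ℕ) : gcnt grC4 n (Multiplicative.ofAdd 1) =
    lk [0, 0, 0, 2, 0, 0, 2, 0, 0, 2, 0, 2] (Nat.gcd n 84) := gcnt_table _ _ _ exp_Z4 (by decide) n
theorem g0_S3 (n : ℕ) : gcnt grS3 n (Multiplicative.ofAdd 0) =
    lk [1, 1, 3, 1, 3, 1, 3, 1, 3, 1, 3, 3] (Nat.gcd n 84) := gcnt_table _ _ _ exp_S3 (by decide) n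
theorem g1_S3 (n : ℕ) : gcnt grS3 n (Multiplicative.ofAdd 1) =
    lk [0, 3, 0, 3, 3, 0, 3, 3, 0, 3, 3, 3] (Nat.gcd n 84) := gcnt_table _ _ _ exp_S3 (by decide) n
theorem g0_D8a (n : ℕ) : gcnt grD8a n (Multiplicative.ofAdd 0) =
    lk [1, 2, 1, 4, 2, 1, 4, 2, 1, 4, 2, 4] (Nat.gcd n 84) := gcnt_table _ _ _ exp_D8 (by decide) n
theorem g1_D8a (n : ℕ) : gcnt grD8a n (Multiplicative.ofAdd 1) =
    lk [0, 4, 0, 4, 4, 0, 4, 4, 0, 4, 4, 4] (Nat.gcd n 84) := gcnt_table _ _ _ exp_D8 (by decide) n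
theorem g0_D8b (n : ℕ) : gcnt grD8b n (Multiplicative.ofAdd 0) =
    lk [1, 4, 1, 4, 4, 1, 4, 4, 1, 4, 4, 4] (Nat.gcd n 84) := gcnt_table _ _ _ exp_D8 (by decide) n
theorem g1_D8b (n : ℕ) : gcnt grD8b n (Multiplicative.ofAdd 1) =
    lk [0, 2, 0, 4, 2, 0, 4, 2, 0, 4, 2, 4] (Nat.gcd n 84) := gcnt_table _ _ _ exp_D8 (by decide) n
theorem g0_D14 (n : ℕ) : gcnt grD14 n (Multiplicative.ofAdd 0) =
    lk [1, 1, 1, 1, 1, 7, 1, 7, 7, 7, 7, 7] (Nat.gcd n 84) := gcnt_table _ _ _ exp_D14 (by decide) n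
theorem g1_D14 (n : ℕ) : gcnt grD14 n (Multiplicative.ofAdd 1) =
    lk [0, 7, 0, 7, 7, 0, 7, 7, 0, 7, 7, 7] (Nat.gcd n 84) := gcnt_table _ _ _ exp_D14 (by decide) n
theorem g0_F42 (n : ℕ) : gcnt grF42 n (Multiplicative.ofAdd 0) =
    lk [1, 1, 15, 1, 15, 7, 15, 7, 21, 7, 21, 21] (Nat.gcd n 84) := gcnt_table _ _ _ exp_F42 (by decide) n
theorem g1_F42 (n : ℕ) : gcnt grF42 n (Multiplicative.ofAdd 1) =
    lk [0, 7, 0, 7, 21, 0, 21, 7, 0, 7, 21, 21] (Nat.gcd n 84) := gcnt_table _ _ _ exp_F42 (by decide) n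

end Cfsg.Agent.Lib.Helper73.OT
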