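import Mathlib

set_option autoImplicit false

/-! Generic lemmas on the number of solutions of `x ^ n = 1` in products, powers and fibre products. -/

namespace Cfsg.Agent.Lib.Helper73.OT

/-- number of solutions of `x ^ n = 1`. -/
noncomputable def cnt (X : Type*) [Group X] (n : ℕ) : ℕ := Nat.card {x : X // x ^ n = 1}

/-- number of solutions of `x ^ n = 1` in the fibre of `f` over `q`. -/
noncomputable def gcnt {X Q : Type*} [Group X] [Group Q] (f : X →* Q) (n : ℕ) (q : Q) : ℕ :=
  Nat.card {x : X // f x = q ∧ x ^ n = 1}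

theorem cnt_prod (X Y : Type*) [Group X] [Group Y] (n : ℕ) :
    cnt (X × Y) n = cnt X n * cnt Y n := by
  unfold cnt
  rw [← Nat.card_prod]
  apply Nat.card_congr
  exact
    { toFun := fun p => (⟨p.1.1, congrArg Prod.fst p.2⟩, ⟨p.1.2, congrArg Prod.snd p.2⟩)
      invFun := fun p => ⟨(p.1.1, p.2.1), Prod.ext p.1.2 p.2.2⟩
      left_inv := fun _ => rfl
      right_inv := fun _ => rfl }

theorem cnt_pi (X : Type*) [Group X] (k n : ℕ) :
    cnt (Fin k → X) n = cnt X n ^ k := by
  unfold cnt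
  have h : Nat.card (Fin k → {x : X // x ^ n = 1}) = Nat.card {x : X // x ^ n = 1} ^ k := by
    rw [Nat.card_fun, Nat.card_fin]
  rw [← h]
  apply Nat.card_congr
  exact
    { toFun := fun p i => ⟨p.1 i, congrFun p.2 i⟩
      invFun := fun p => ⟨fun i => (p i).1, funext fun i => (p i).2⟩
      left_inv := fun _ => rfl
      right_inv := fun _ => rfl }

theorem cnt_eq_sum_gcnt {X Q : Type*} [Group X] [Finite X] [Group Q] [Fintype Q] (f : X →* Q) (n : ℕ) :
    cnt X n = ∑ q : Q, gcnt f n q := by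
  unfold cnt gcnt
  rw [← Nat.card_sigma]
  apply Nat.card_congr
  exact
    { toFun := fun x => ⟨f x.1, ⟨x.1, rfl, x.2⟩⟩
      invFun := fun p => ⟨p.2.1, p.2.2.2⟩
      left_inv := fun _ => rfl
      right_inv := by
        rintro ⟨q, x, rfl, hx⟩
        rfl }

/-- The fibre product of two groups over `Q`. -/
def Fib {X Y Q : Type*} [Group X] [Group Y] [Group Q] (f : X →* Q) (g : Y →* Q) : Subgroup (X × Y) :=
  (f.comp (MonoidHom.fst X Y)).eqLocus (g.comp (MonoidHom.snd X Y))

/-- The structure map of the fibre product. -/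
def Fib.gr {X Y Q : Type*} [Group X] [Group Y] [Group Q] (f : X →* Q) (g : Y →* Q) :
    ↥(Fib f g) →* Q :=
  (f.comp (MonoidHom.fst X Y)).comp (Fib f g).subtype

theorem gcnt_fib {X Y Q : Type*} [Group X] [Group Y] [Group Q] (f : X →* Q) (g : Y →* Q)
    (n : ℕ) (q : Q) : gcnt (Fib.gr f g) n q = gcnt f n q * gcnt g n q := by
  unfold gcnt
  rw [← Nat.card_prod]
  apply Nat.card_congr
  exact
    { toFun := fun p =>
        (⟨p.1.1.1, p.2.1, congrArg (fun z : ↥(Fib f g) => z.1.1) p.2.2⟩,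
         ⟨p.1.1.2, (show g p.1.1.2 = f p.1.1.1 from p.1.2.symm).trans p.2.1,
            congrArg (fun z : ↥(Fib f g) => z.1.2) p.2.2⟩)
      invFun := fun p =>
        ⟨⟨(p.1.1, p.2.1), show f p.1.1 = g p.2.1 from p.1.2.1.trans p.2.2.1.symm⟩, p.1.2.1,
          Subtype.ext (Prod.ext p.1.2.2 p.2.2.2)⟩
      left_inv := fun _ => rfl
      right_inv := fun _ => rfl }

theorem pow_eq_one_iff_gcd {X : Type*} [Group X] {x : X} {N : ℕ} (h : x ^ N = 1) (n : ℕ) :
    x ^ n = 1 ↔ x ^ Nat.gcd n N = 1 := by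
  rw [← orderOf_dvd_iff_pow_eq_one, ← orderOf_dvd_iff_pow_eq_one, Nat.dvd_gcd_iff]
  exact ⟨fun h1 => ⟨h1, orderOf_dvd_of_pow_eq_one h⟩, fun h1 => h1.1⟩

theorem gcnt_gcd {X Q : Type*} [Group X] [Group Q] (f : X →* Q) (N : ℕ) (h : ∀ x : X, x ^ N = 1)
    (n : ℕ) (q : Q) : gcnt f n q = gcnt f (Nat.gcd n N) q := by
  unfold gcnt
  apply Nat.card_congr
  apply Equiv.subtypeEquivRight
  intro x
  rw [pow_eq_one_iff_gcd (h x) n]

theorem cnt_gcd {X : Type*} [Group X] (N : ℕ) (h : ∀ x : X, x ^ N = 1)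
    (n : ℕ) : cnt X n = cnt X (Nat.gcd n N) := by
  unfold cnt
  apply Nat.card_congr
  apply Equiv.subtypeEquivRight
  intro x
  rw [pow_eq_one_iff_gcd (h x) n]

theorem cnt_eq_card_filter (X : Type*) [Group X] [Fintype X] [DecidableEq X] (n : ℕ) :
    cnt X n = (Finset.univ.filter (fun x : X => x ^ n = 1)).card := by
  unfold cnt
  rw [Nat.card_eq_fintype_card, Fintype.card_subtype]

theorem gcnt_eq_card_filter {X Q : Type*} [Group X] [Fintype X] [DecidableEq X] [Group Q]
    [DecidableEq Q] (f : X →* Q) (n : ℕ) (q : Q) :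
    gcnt f n q = (Finset.univ.filter (fun x : X => f x = q ∧ x ^ n = 1)).card := by
  unfold gcnt
  rw [Nat.card_eq_fintype_card, Fintype.card_subtype]

/-- finite powers of solvable groups are solvable -/
theorem isSolvable_pi (X : Type*) [Group X] [hX : Group.IsSolvable X] (ι : Type*) :
    Group.IsSolvable (ι → X) := by
  obtain ⟨n, hn⟩ := hX
  refine ⟨⟨n, ?_⟩⟩
  rw [eq_bot_iff]
  intro f hf
  rw [Subgroup.mem_bot]
  funext i
  have h1 : (Pi.evalMonoidHom (fun _ : ι => X) i) f ∈
      (derivedSeries (ι → X) n).map (Pi.evalMonoidHom (fun _ : ι => X) i) :=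
    Subgroup.mem_map_of_mem _ hf
  have h2 := map_derivedSeries_le_derivedSeries (Pi.evalMonoidHom (fun _ : ι => X) i) n h1
  rw [hn, Subgroup.mem_bot] at h2
  exact h2

/-- A counting criterion for non-solvability. -/
theorem not_isSolvable_of_cnt (G : Type*) [Group G] [Finite G] [Nontrivial G]
    (h : ∀ p : ℕ, p.Prime → p ∣ Nat.card G → ∃ m : ℕ, Nat.Coprime m p ∧ Nat.card G < p * cnt G m) :
    ¬ Group.IsSolvable G := by
  intro hsol
  have hlt := Group.IsSolvable.commutator_lt_top_of_nontrivial G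
  have hA : Nontrivial (Abelianization G) := by
    rw [Abelianization]
    exact QuotientGroup.nontrivial_iff.mpr hlt.ne
  have hAcard : 1 < Nat.card (Abelianization G) := Finite.one_lt_card
  set a := Nat.card (Abelianization G) with ha
  obtain ⟨p, hp, hpa⟩ := Nat.exists_prime_and_dvd hAcard.ne'
  have := Fact.mk hp
  have haG : a ∣ Nat.card G := by
    have := (commutator G).card_mul_index
    rw [← this]
    exact Dvd.intro_left _ rfl
  obtain ⟨m, hm, hlt2⟩ := h p hp (hpa.trans haG)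
  set v := a.factorization p with hv
  set e := a / p ^ v with he
  have hae : e * p ^ v = a := Nat.div_mul_cancel (Nat.ordProj_dvd a p)
  have hpe : ¬ p ∣ e := Nat.not_dvd_ordCompl hp (by omega)
  let ψ : G →* Abelianization G := (powMonoidHom e).comp Abelianization.of
  have hψ : ∀ x, ψ x = (Abelianization.of x) ^ e := fun _ => rfl
  have hψp : ∀ x, (ψ x) ^ (p ^ v) = 1 := by
    intro x
    rw [hψ, ← pow_mul, hae, ha]
    exact pow_card_eq_one'
  -- kernel contains all solutions of x^m = 1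
  have hker : ∀ x : G, x ^ m = 1 → x ∈ ψ.ker := by
    intro x hx
    rw [MonoidHom.mem_ker]
    have h1 : (ψ x) ^ m = 1 := by rw [← map_pow, hx, map_one]
    have h2 : orderOf (ψ x) ∣ Nat.gcd m (p ^ v) :=
      Nat.dvd_gcd (orderOf_dvd_of_pow_eq_one h1) (orderOf_dvd_of_pow_eq_one (hψp x))
    have h3 : Nat.gcd m (p ^ v) = 1 := Nat.Coprime.pow_right v hm
    rw [h3, Nat.dvd_one, orderOf_eq_one_iff] at h2
    exact h2
  have hcnt : cnt G m ≤ Nat.card ψ.ker := by
    unfold cnt
    apply Nat.card_le_card_of_injective (fun x : {x : G // x ^ m = 1} => (⟨x.1, hker x.1 x.2⟩ : ψ.ker))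
    intro x y hxy
    exact Subtype.ext (congrArg (fun z : ψ.ker => z.1) hxy)
  -- the range is a nontrivial p-group
  have hrange : IsPGroup p ψ.range := by
    rintro ⟨_, x, rfl⟩
    exact ⟨v, Subtype.ext (hψp x)⟩
  obtain ⟨k, hk⟩ := IsPGroup.iff_card.mp hrange
  have hk0 : k ≠ 0 := by
    rintro rfl
    rw [pow_zero] at hk
    obtain ⟨y, hy⟩ := exists_prime_orderOf_dvd_card' (G := Abelianization G) p hpa
    have hsurj : Function.Surjective (Abelianization.of : G →* Abelianization G) :=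
      QuotientGroup.mk'_surjective (commutator G)
    obtain ⟨x, hx⟩ := hsurj y
    have h1 : ψ x = 1 := by
      have hsub := (Nat.card_eq_one_iff_unique.mp hk).1
      have := hsub.elim (⟨ψ x, x, rfl⟩ : ψ.range) 1
      exact congrArg Subtype.val this
    rw [hψ, hx] at h1
    have := orderOf_dvd_of_pow_eq_one h1
    rw [hy] at this
    exact hpe this
  have hidx : p ∣ ψ.ker.index := by
    rw [Subgroup.index_ker, hk]
    exact dvd_pow_self p hk0
  have hfin : p * Nat.card ψ.ker ≤ Nat.card G := by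
    rw [← ψ.ker.card_mul_index, mul_comm]
    exact Nat.mul_le_mul_left _ (Nat.le_of_dvd (Nat.pos_of_ne_zero Subgroup.index_ne_zero_of_finite) hidx)
  have := Nat.mul_le_mul_left p hcnt
  omega

end Cfsg.Agent.Lib.Helper73.OT
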