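import Cfsg.Agent.Lib.Helper73.OTBlocks

set_option autoImplicit false
set_option maxRecDepth 100000

/-! The simple group `SL(3,2)` of order 168: its table, and non-solvability. -/

namespace Cfsg.Agent.Lib.Helper73.OT

abbrev SL3 := Matrix.SpecialLinearGroup (Fin 3) (ZMod 2)

theorem exp_SL3 : ∀ x : SL3, x ^ 84 = 1 := by
  have h : ∀ x : SL3, ((x ^ 7) ^ 3) ^ 4 = 1 := by decide +kernel
  intro x
  have := h x
  rwa [← pow_mul, ← pow_mul] at this

theorem tab_SL3_a : ∀ d ∈ ({1, 2, 3, 4, 6, 7} : Finset ℕ),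
    (Finset.univ.filter (fun x : SL3 => x ^ d = 1)).card =
      lk [1, 22, 57, 64, 78, 49, 120, 70, 105, 112, 126, 168] d := by decide +kernel

theorem tab_SL3_b : ∀ d ∈ ({12, 14, 21} : Finset ℕ),
    (Finset.univ.filter (fun x : SL3 => x ^ d = 1)).card =
      lk [1, 22, 57, 64, 78, 49, 120, 70, 105, 112, 126, 168] d := by decide +kernel

theorem tab_SL3_c : ∀ d ∈ ({28, 42} : Finset ℕ),
    (Finset.univ.filter (fun x : SL3 => x ^ d = 1)).card =
      lk [1, 22, 57, 64, 78, 49, 120, 70, 105, 112, 126, 168] d := by decide +kernel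

theorem card_SL3 : Fintype.card SL3 = 168 := by decide +kernel

theorem tab_SL3 : ∀ d ∈ Nat.divisors 84,
    (Finset.univ.filter (fun x : SL3 => x ^ d = 1)).card =
      lk [1, 22, 57, 64, 78, 49, 120, 70, 105, 112, 126, 168] d := by
  intro d hd
  have h : d ∈ ({1, 2, 3, 4, 6, 7} : Finset ℕ) ∨ d ∈ ({12, 14, 21} : Finset ℕ) ∨
      d ∈ ({28, 42} : Finset ℕ) ∨ d = 84 := by
    revert d
    decide
  rcases h with h | h | h | rfl
  · exact tab_SL3_a d h
  · exact tab_SL3_b d h
  · exact tab_SL3_c d h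
  · have : (Finset.univ.filter (fun x : SL3 => x ^ 84 = 1)) = Finset.univ := by
      ext x; simp [exp_SL3 x]
    rw [this, Finset.card_univ, card_SL3]
    decide

theorem cnt_SL3 (n : ℕ) :
    cnt SL3 n = lk [1, 22, 57, 64, 78, 49, 120, 70, 105, 112, 126, 168] (Nat.gcd n 84) :=
  cnt_table _ exp_SL3 tab_SL3 n

theorem not_isSolvable_SL3 : ¬ Group.IsSolvable SL3 := by
  have hcard : Nat.card SL3 = 168 := by rw [Nat.card_eq_fintype_card, card_SL3]
  haveI : Nontrivial SL3 := by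
    rw [← Finite.one_lt_card_iff_nontrivial, hcard]; norm_num
  apply not_isSolvable_of_cnt
  intro p hp hpd
  rw [hcard] at hpd ⊢
  have hp3 : p = 2 ∨ p = 3 ∨ p = 7 := by
    have h1 : p ∈ Nat.primeFactors 168 := Nat.mem_primeFactors.mpr ⟨hp, hpd, by norm_num⟩
    have h2 : Nat.primeFactors 168 = {2, 3, 7} := by decide +kernel
    rw [h2] at h1
    simpa using h1
  rcases hp3 with rfl | rfl | rfl
  · exact ⟨21, by decide, by rw [cnt_SL3]; decide⟩
  · exact ⟨28, by decide, by rw [cnt_SL3]; decide⟩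
  · exact ⟨12, by decide, by rw [cnt_SL3]; decide⟩

end Cfsg.Agent.Lib.Helper73.OT
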