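import Cfsg.Agent.Lib.Helper68.RO.Defs

/-!
# Gallagher preserves "real of odd degree" (piece B3ii of helper68's S4581 farm)
-/

set_option autoImplicit false
set_option linter.unusedSectionVars false
set_option linter.style.haveILetI false

namespace Cfsg.Agent.Lib.Helper73.RO

open Cfsg Cfsg.Agent.Lib Cfsg.Agent.Lib.Helper15 Cfsg.Agent.Lib.Helper68.RO
open scoped ComplexConjugate

theorem card_over_ext {X : Type*} [Group X] [Fintype X] (N : Subgroup X) [N.Normal] [Fintype N]
    {ν : X → ℂ} (hν : IsIrrCharacter X ν) (hν1 : ν 1 = 1) (hνr : ∀ t, (ν t).im = 0) :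
    Nat.card {χ : IrrCharacter X // RealOdd (χ : X → ℂ) ∧
      classInner (fun n : N => (χ : X → ℂ) n) (fun n : N => ν n) ≠ 0} = r (X ⧸ N) := by
  classical
  have hνN : IsIrrCharacter N (fun n : N => ν n) :=
    irr_of_linear (char_restrict (irr_char hν) N) hν1
  have hg := gallagher N hν hνN
  have hsq : ∀ t, ν t * ν t = 1 := by
    intro t
    have h1 := linear_mul_conj (irr_char hν) hν1 t
    rwa [Complex.conj_eq_iff_im.2 (hνr t)] at h1
  have hinner : ∀ β : X → ℂ, IsIrrCharacter X β → (∀ n ∈ N, β n = β 1) →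
      classInner (fun n : N => β n) (fun _ => 1) ≠ 0 := by
    intro β hβ hβK
    have : (fun n : N => β n) = (β 1) • (fun _ : N => (1 : ℂ)) := by
      funext n
      simp [hβK n n.2]
    rw [this, classInner_smul_left, irr_inner_self irr_one, mul_one]
    exact irr_one_ne_zero hβ
  have hdeg : ∀ β : X → ℂ, charDegree (β * ν) = charDegree β := by
    intro β
    unfold charDegree
    rw [Pi.mul_apply, hν1, mul_one]
  have hre : ∀ β : X → ℂ, (∀ t, (β t).im = 0) → ∀ t, ((β * ν) t).im = 0 := by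
    intro β hβ t
    rw [Pi.mul_apply, Complex.mul_im, hβ t, hνr t]
    ring
  have hmm : ∀ β : X → ℂ, (β * ν) * ν = β := by
    intro β
    funext t
    rw [Pi.mul_apply, Pi.mul_apply, mul_assoc, hsq, mul_one]
  unfold r
  symm
  refine Nat.card_congr (Equiv.ofBijective
    (fun β' : {β' : IrrCharacter (X ⧸ N) // RealOdd (β' : X ⧸ N → ℂ)} =>
      (⟨⟨((Helper80.inflateEquiv N β'.1).1 : X → ℂ) * ν,
          (hg.mapsTo ⟨(Helper80.inflateEquiv N β'.1).1.2,
            hinner _ (Helper80.inflateEquiv N β'.1).1.2 (Helper80.inflateEquiv N β'.1).2⟩).1⟩,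
        ⟨?_, ?_⟩,
          (hg.mapsTo ⟨(Helper80.inflateEquiv N β'.1).1.2,
            hinner _ (Helper80.inflateEquiv N β'.1).1.2 (Helper80.inflateEquiv N β'.1).2⟩).2⟩ :
        {χ : IrrCharacter X // RealOdd (χ : X → ℂ) ∧
          classInner (fun n : N => (χ : X → ℂ) n) (fun n : N => ν n) ≠ 0})) ⟨?_, ?_⟩)
  · exact hre _ (fun t => β'.2.1 _)
  · change Odd (charDegree (((Helper80.inflateEquiv N β'.1).1 : X → ℂ) * ν))
    rw [hdeg]
    exact β'.2.2
  · intro a b hab
    have h1 : ((Helper80.inflateEquiv N a.1).1 : X → ℂ) * ν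
        = ((Helper80.inflateEquiv N b.1).1 : X → ℂ) * ν :=
      congrArg (fun z => (z.1 : X → ℂ)) hab
    have h2 : ((Helper80.inflateEquiv N a.1).1 : X → ℂ) = ((Helper80.inflateEquiv N b.1).1 : X → ℂ) := by
      rw [← hmm ((Helper80.inflateEquiv N a.1).1 : X → ℂ), h1, hmm]
    exact Subtype.ext ((Helper80.inflateEquiv N).injective (Subtype.ext (Subtype.ext h2)))
  · rintro ⟨χ, ⟨hχr, hχo⟩, hχl⟩
    obtain ⟨β, ⟨hβ, hβ1⟩, hβχ⟩ := hg.surjOn (⟨χ.2, hχl⟩ :
      (χ : X → ℂ) ∈ {ψ | IsIrrCharacter X ψ ∧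
        classInner (fun n : N => ψ n) (fun n : N => ν n) ≠ 0})
    have hβχ' : β * ν = (χ : X → ℂ) := hβχ
    have hβK : ∀ n ∈ N, β n = β 1 := fun n hn =>
      (restrict_eq_of_inner_one_ne_zero N hβ hβ1).2 ⟨n, hn⟩
    obtain ⟨β', hβ'⟩ := (Helper80.inflateEquiv N).surjective ⟨⟨β, hβ⟩, hβK⟩
    have hval : ∀ t : X, (β' : X ⧸ N → ℂ) (t : X ⧸ N) = β t := by
      intro t
      rw [← Helper80.inflateEquiv_apply, hβ']
    have hβeq : β = (χ : X → ℂ) * ν := by rw [← hβχ', hmm]
    have hro : RealOdd (β' : X ⧸ N → ℂ) := by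
      constructor
      · intro x
        obtain ⟨t, rfl⟩ := QuotientGroup.mk_surjective x
        rw [hval, hβeq]
        exact hre _ hχr t
      · have h1 : charDegree (β' : X ⧸ N → ℂ) = charDegree β := by
          unfold charDegree
          rw [← hval 1]
          rfl
        rw [h1, ← hdeg β, hβχ']
        exact hχo
    refine ⟨⟨β', hro⟩, ?_⟩
    apply Subtype.ext
    apply Subtype.ext
    change ((Helper80.inflateEquiv N β').1 : X → ℂ) * ν = (χ : X → ℂ)
    rw [hβ']
    exact hβχ'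

variable {G : Type*} [Group G] [Fintype G] (M : Subgroup G) [M.Normal] [Fintype M]

theorem rOver_of_ext {T : Subgroup G} (hMT : M ≤ T) {ν : T → ℂ} (hν : IsIrrCharacter T ν)
    (hν1 : ν 1 = 1) (hνr : ∀ t, (ν t).im = 0) :
    rOver hMT (resFun hMT ν) = r (T ⧸ M.subgroupOf T) := by
  classical
  haveI := Fintype.ofFinite T
  haveI := Fintype.ofFinite (M.subgroupOf T)
  rw [← card_over_ext (M.subgroupOf T) hν hν1 hνr]
  unfold rOver
  have key : ∀ χ : T → ℂ, classInner (resFun hMT χ) (resFun hMT ν)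
      = classInner (fun n : M.subgroupOf T => χ n) (fun n : M.subgroupOf T => ν n) := by
    intro χ
    rw [← classInner_downFun hMT]
    rfl
  simp only [key]

end Cfsg.Agent.Lib.Helper73.RO
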